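import Groth.Agent.L03.BlowAcyc.Twists
import Groth.Agent.L13.BlowP1.Exceptional
import Groth.Agent.L13.PairBlow.Basic
import Groth.Agent.L16.ProjSpace.SerreVanishing

/-!
# Blow-ups in a quasi-regular sequence: cohomology of powers of the exceptional ideal
-/

set_option autoImplicit false
set_option linter.style.haveILetI false
set_option backward.isDefEq.respectTransparency false

universe u

open CategoryTheory CategoryTheory.Limits AlgebraicGeometry TopologicalSpace
open Groth.L11.BlowSmooth (sI)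
open Groth.L13.BU (idealOf)
open Groth.L13.BlowP1 (exIdeal exι)
open Groth.L18.PUP (P O1)
open Groth.L00.Tensor (tensorIso tensorComm tensorUnitLeft tensorUnitRight tensorAssoc)

noncomputable section

namespace Groth.L03.BlowAcyc

variable {A : Type u} [CommRing A] {n : ℕ} {f : Fin (n + 1) → A} {X : Scheme.{u}}
  {b : X ⟶ Spec (CommRingCat.of A)}

variable (f b) in
/-- The exceptional ideal as a module. -/
abbrev L : X.Modules := ClSub.idealMod (exIdeal f b)

theorem isInvertible_L (hb : BlowUp.IsBlowUp b (idealOf (sI f))) : PicF.IsInvertible (L f b) :=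
  (Groth.Agent.L19.IdealInvertible.isEffCartier_iff _).2 hb.1

theorem subsingleton_HH_exc (e : P n (A ⧸ sI f) ≅ (exIdeal f b).subscheme) {N : X.Modules} (d : ℤ)
    (h : (Scheme.Modules.pullback (e.hom ≫ exι f b)).obj N ≅ Twist.twistProjSpace n (A ⧸ sI f) d) (q : ℕ)
    (hq : Subsingleton (Coh.HH (CohB1.ProjSpace n (A ⧸ sI f)) (Twist.twistProjSpace n (A ⧸ sI f) d) q)) :
    Subsingleton (Coh.HH X ((Scheme.Modules.pushforward (exι f b)).obj
      ((Scheme.Modules.pullback (exι f b)).obj N)) q) := by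
  refine Groth.L14.LocHilbLift.subsingleton_HH_push (exι f b) _ q ?_
  obtain ⟨a⟩ := nonempty_HH_pullback_iso e.hom ((Scheme.Modules.pullback (exι f b)).obj N) q
  exact @Equiv.subsingleton _ _ a.symm.toEquiv (Groth.L14.LocHilbLift.subsingleton_HH_of_iso
    (h.symm ≪≫ ((Scheme.Modules.pullbackComp e.hom (exι f b)).app N).symm) q hq)

/-- Vanishing passes from `L ⊗ N` to `N` when the exceptional part vanishes. -/
theorem subsingleton_step {N : X.Modules} (hN : FlatMod.IsFinLocFree N) (q : ℕ)
    (hE : Subsingleton (Coh.HH X ((Scheme.Modules.pushforward (exι f b)).obj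
      ((Scheme.Modules.pullback (exι f b)).obj N)) q))
    (hLN : Subsingleton (Coh.HH X (CohB1.tensorMod (L f b) N) q)) : Subsingleton (Coh.HH X N q) := by
  obtain ⟨S, hS, e₁, e₂, -, ⟨e₃⟩⟩ := Groth.L13.PairBlow.exists_seq (exIdeal f b) hN
  haveI h3 := Groth.L14.LocHilbLift.subsingleton_HH_of_iso e₃.symm q hE
  haveI h1 := Groth.L14.LocHilbLift.subsingleton_HH_of_iso e₁.symm q hLN
  refine Groth.L14.LocHilbLift.subsingleton_HH_of_iso e₂ q (subsingleton_of_forall_eq 0 fun z => ?_)
  obtain ⟨w, rfl⟩ := (Groth.L16.CohLinear.exact_hmap_hmap hS q z).1 (Subsingleton.elim _ _)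
  rw [Subsingleton.elim w 0, map_zero]

variable [IsNoetherianRing A]

/-- High powers of the exceptional ideal are acyclic. -/
theorem exists_vanish_pow (hb : BlowUp.IsBlowUp b (idealOf (sI f))) :
    ∃ d₀ : ℕ, ∀ m : ℕ, d₀ ≤ m → ∀ q : ℕ, 0 < q → Subsingleton (Coh.HH X (CohB1.tensorPow (L f b) m) q) := by
  obtain ⟨r, hr, -, ⟨τ⟩⟩ := Groth.L13.BlowP1.exists_embed f b hb
  haveI := hr
  haveI : IsLocallyNoetherian (CohB1.ProjSpace n A) :=
    LocallyOfFiniteType.isLocallyNoetherian (CohB1.ProjSpace.toSpec n A)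
  haveI : IsLocallyNoetherian (P n A) := ‹IsLocallyNoetherian (CohB1.ProjSpace n A)›
  haveI : IsLocallyNoetherian X := LocallyOfFiniteType.isLocallyNoetherian r
  let M := (Scheme.Modules.pushforward r).obj (Coh.structureModule X)
  have hM : Coh.IsCoh M := Groth.L16.CohClosedPush.isCoh_push (i := r) Groth.L16.CohClosedPush.isCoh_structure
  obtain ⟨d₀, hd₀⟩ := Groth.L16.ProjSpace.exists_vanishing n A M hM
  refine ⟨d₀, fun m hm q hq => ?_⟩
  let N := Twist.twistProjSpace n A (m : ℤ)
  have hN : FlatMod.IsFinLocFree N := Groth.L16.Existence.isFinLocFree_of_isInvertible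
    (Groth.L16.ProjTwist.isInvertible_twistProjSpace n A _)
  obtain ⟨eN⟩ := nonempty_pow_iso_twist (n := n) (R := A) (Iso.refl (Twist.twistProjSpace n A 1)) m
  let e : (Scheme.Modules.pushforward r).obj (CohB1.tensorPow (L f b) m) ≅ CohB1.tensorMod N M :=
    (Scheme.Modules.pushforward r).mapIso ((Groth.L00.Tensor.tensorPowIso τ.symm m) ≪≫
      (Groth.L18.Ample.pullPow r _ m).symm ≪≫ (Scheme.Modules.pullback r).mapIso eN ≪≫
      (tensorUnitRight _).symm) ≪≫
    ((Groth.L17.ProjFormula.projIso r N hN).app (Coh.structureModule X)).symm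
  obtain ⟨a⟩ := Groth.L17.nonempty_HH_push_of_isClosedImmersion r (CohB1.tensorPow (L f b) m) q
  haveI := Groth.L14.LocHilbLift.subsingleton_HH_of_iso e.symm q (hd₀ m hm q hq)
  exact a.toEquiv.subsingleton

/-- **Powers of the exceptional ideal of a blow-up in a quasi-regular sequence are acyclic.** -/
theorem subsingleton_HH_pow (hb : BlowUp.IsBlowUp b (idealOf (sI f))) (hf : CAlgX.IsQuasiRegular f)
    (m q : ℕ) (hq : 0 < q) : Subsingleton (Coh.HH X (CohB1.tensorPow (L f b) m) q) := by
  obtain ⟨d₀, hd₀⟩ := exists_vanish_pow hb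
  obtain ⟨e, ⟨τ⟩⟩ := Groth.L13.BlowP1.exists_exceptional f b hb hf
  suffices h : ∀ j m : ℕ, d₀ ≤ m + j → Subsingleton (Coh.HH X (CohB1.tensorPow (L f b) m) q) from
    h d₀ m (Nat.le_add_left _ _)
  intro j
  induction j with
  | zero => exact fun m hm => hd₀ m hm q hq
  | succ j ih =>
    intro m hm
    have hL := isInvertible_L hb
    refine subsingleton_step (f := f) (b := b) (Groth.L16.Existence.isFinLocFree_of_isInvertible
      (Groth.L18.Ample.isInvertible_tensorPow hL m)) q ?_ ?_
    · obtain ⟨em⟩ := nonempty_pow_iso_twist τ m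
      exact subsingleton_HH_exc e (m : ℤ) (Groth.L18.Ample.pullPow (e.hom ≫ exι f b) _ m ≪≫ em) q
        (Groth.L16.ProjSpace.subsingleton_HH_twist n _ _ q (by omega) (by omega))
    · exact Groth.L14.LocHilbLift.subsingleton_HH_of_iso (tensorComm _ _) q (ih (m + 1) (by omega))

/-- Small powers of the inverse of the exceptional ideal are acyclic. -/
theorem subsingleton_HH_inverse_pow (hb : BlowUp.IsBlowUp b (idealOf (sI f))) (hf : CAlgX.IsQuasiRegular f)
    {L' : X.Modules} (hL' : ClSub.IsInverseOf L' (L f b)) (j : ℕ) (hj : j ≤ n) (q : ℕ) (hq : 0 < q) :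
    Subsingleton (Coh.HH X (CohB1.tensorPow L' j) q) := by
  obtain ⟨e, ⟨τ⟩⟩ := Groth.L13.BlowP1.exists_exceptional f b hb hf
  induction j with
  | zero => exact subsingleton_HH_pow hb hf 0 q hq
  | succ j ih =>
    have hL := isInvertible_L hb
    have hL'i := Groth.L13.PointBlow.isInvertible_of_isInverseOf hL hL'
    obtain ⟨c⟩ := hL'
    refine subsingleton_step (f := f) (b := b) (Groth.L16.Existence.isFinLocFree_of_isInvertible
      (Groth.L18.Ample.isInvertible_tensorPow hL'i (j + 1))) q ?_ ?_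
    · let g := e.hom ≫ exι f b
      obtain ⟨em⟩ := nonempty_inverse_pow_iso_twist τ
        (Groth.L29.DC.PullTensor.pullTensor g L' (L f b) ≪≫ (Scheme.Modules.pullback g).mapIso c ≪≫
          Groth.L29.LocFree.pullbackUnitIso g) (j + 1)
      exact subsingleton_HH_exc e (-((j + 1 : ℕ) : ℤ)) (Groth.L18.Ample.pullPow g _ _ ≪≫ em) q
        (Groth.L16.ProjSpace.subsingleton_HH_twist n _ _ q (by omega) (by omega))
    · exact Groth.L14.LocHilbLift.subsingleton_HH_of_iso
        ((tensorUnitRight _).symm ≪≫ tensorIso (Iso.refl _) c.symm ≪≫ (tensorAssoc _ _ _).symm ≪≫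
          tensorComm _ (L f b)) q (ih (by omega))

omit [IsNoetherianRing A] in
/-- The restriction of an inverse of the exceptional ideal to the divisor has no cohomology. -/
theorem subsingleton_HH_exc_inverse (hb : BlowUp.IsBlowUp b (idealOf (sI f))) (hf : CAlgX.IsQuasiRegular f)
    (hn : 1 ≤ n) {L' : X.Modules} (hL' : ClSub.IsInverseOf L' (L f b)) (q : ℕ) :
    Subsingleton (Coh.HH X ((Scheme.Modules.pushforward (exι f b)).obj
      ((Scheme.Modules.pullback (exι f b)).obj L')) q) := by
  obtain ⟨e, ⟨τ⟩⟩ := Groth.L13.BlowP1.exists_exceptional f b hb hf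
  let g := e.hom ≫ exι f b
  obtain ⟨c⟩ := hL'
  obtain ⟨em⟩ := nonempty_inverse_iso_twist τ
    (Groth.L29.DC.PullTensor.pullTensor g L' (L f b) ≪≫ (Scheme.Modules.pullback g).mapIso c ≪≫
      Groth.L29.LocFree.pullbackUnitIso g)
  exact subsingleton_HH_exc e (-1) em q
    (Groth.L16.ProjSpace.subsingleton_HH_twist n _ _ q (by omega) (by omega))

omit [IsNoetherianRing A] in
/-- The restriction of a power of the exceptional ideal to the divisor is acyclic. -/
theorem subsingleton_HH_exc_pow (hb : BlowUp.IsBlowUp b (idealOf (sI f))) (hf : CAlgX.IsQuasiRegular f)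
    (m q : ℕ) (hq : 0 < q) :
    Subsingleton (Coh.HH X ((Scheme.Modules.pushforward (exι f b)).obj
      ((Scheme.Modules.pullback (exι f b)).obj (CohB1.tensorPow (L f b) m))) q) := by
  obtain ⟨e, ⟨τ⟩⟩ := Groth.L13.BlowP1.exists_exceptional f b hb hf
  obtain ⟨em⟩ := nonempty_pow_iso_twist τ m
  exact subsingleton_HH_exc e (m : ℤ) (Groth.L18.Ample.pullPow (e.hom ≫ exι f b) _ m ≪≫ em) q
    (Groth.L16.ProjSpace.subsingleton_HH_twist n _ _ q (by omega) (by omega))

end Groth.L03.BlowAcyc
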