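import Groth.Agent.L03.BlowAcyc.Regular
import Groth.Agent.L06.ConormalStalk
import Groth.Agent.L23.SchemeFacts
import Groth.Agent.L17.FinLocBases
import Groth.Agent.L21.Mod.Locality
import Groth.Prelude.Def_Mor2

/-!
# Regular centres with conormal sheaf of positive rank
-/

set_option autoImplicit false
set_option linter.style.haveILetI false
set_option backward.isDefEq.respectTransparency false

universe u

open CategoryTheory CategoryTheory.Limits AlgebraicGeometry TopologicalSpace
open Groth.L11.BlowSmooth (sI)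
open Groth.L21.Mod (stalkF)

noncomputable section

namespace Groth.L03.BlowAcyc

/-- The stalks of a module that is free of positive rank are nonzero. -/
theorem not_subsingleton_stalk {X : Scheme.{u}} {M : X.Modules} {d : ℕ} (hd : 0 < d)
    (h : FlatMod.IsFinLocFreeOfRank d M) (x : X) : ¬ Subsingleton (M.presheaf.stalk x) := by
  intro hs
  obtain ⟨U, hxU, ⟨e⟩⟩ := h x
  obtain ⟨a, b, hab, -⟩ := Groth.L17.FinLocBases.exists_split d e
  let y : U.toScheme := ⟨x, hxU⟩
  let S := stalkF U.toScheme y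
  haveI : Subsingleton (S.obj (M.restrict U.ι)) :=
    @Equiv.subsingleton _ _ ((Groth.L21.Mod.restrictStalkF U.ι y).app M).addCommGroupIsoToAddEquiv.toEquiv hs
  let v : S.obj (Coh.structureModule U.toScheme) :=
    (Coh.structureModule U.toScheme).presheaf.germ ⊤ y trivial (1 : Γ(U.toScheme, ⊤))
  have h1 : v = 0 := by
    have h2 : S.map (a ⟨0, hd⟩ ≫ b ⟨0, hd⟩) v = v := by
      rw [hab, if_pos rfl, CategoryTheory.Functor.map_id]
      rfl
    rw [← h2, Functor.map_comp]
    exact (congrArg (S.map (b ⟨0, hd⟩)) (Subsingleton.elim _ 0)).trans (map_zero _)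
  obtain ⟨W, hyW, i₁, i₂, hW⟩ := (Coh.structureModule U.toScheme).presheaf.germ_eq (U := ⊤) (V := ⊤) y trivial trivial
    (1 : Γ(U.toScheme, ⊤)) (0 : Γ(U.toScheme, ⊤)) (h1.trans (map_zero _).symm)
  have hW' : (U.toScheme.presheaf.map i₁.op) (1 : Γ(U.toScheme, ⊤)) =
      (U.toScheme.presheaf.map i₂.op) (0 : Γ(U.toScheme, ⊤)) := hW
  have h3 : (1 : Γ(U.toScheme, W)) = 0 := by rwa [map_one, map_zero] at hW'
  exact one_ne_zero (α := U.toScheme.presheaf.stalk y) (by
    rw [← map_one (U.toScheme.presheaf.germ W y hyW).hom, h3, map_zero])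

/-- The centre of a regular closed immersion with conormal sheaf of positive rank. -/
theorem locQR_of_conormal {X Y : Scheme.{u}} [IsLocallyNoetherian Y] (f : X ⟶ Y)
    (hf : Mor2.IsRegularClosedImmersion f) (d : ℕ) (hd : 0 < d)
    (hC : FlatMod.IsFinLocFreeOfRank d (Omega.conormal f)) :
    LocQR f.ker 0 ∧ Dense ((f.ker.support : Set Y)ᶜ) := by
  haveI := hf.1
  have key : ∀ y ∈ f.ker.support, ∃ (U : Y.affineOpens) (m : ℕ) (g : Fin (m + 1) → Γ(Y, U.1)), y ∈ U.1 ∧
      f.ker.ideal U = sI g ∧ CAlgX.IsQuasiRegular g ∧ g 0 ∈ nonZeroDivisors Γ(Y, U.1) := by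
    intro y hy
    have hy' : y ∈ Set.range f := by
      have h : y ∈ (f.ker.support : Set Y) := hy
      rwa [Scheme.Hom.support_ker, f.isClosedEmbedding.isClosed_range.closure_eq] at h
    obtain ⟨z, rfl⟩ := hy'
    obtain ⟨U, hU, hzU, rs, hrs, hker⟩ := hf.2 z
    obtain ⟨m, hm⟩ : ∃ m, rs.length = m + 1 := by
      refine ⟨rs.length - 1, ?_⟩
      by_contra hcon
      obtain rfl : rs = [] := List.eq_nil_of_length_eq_zero (by omega)
      rw [Ideal.ofList_nil] at hker
      haveI : IsAffine U.toScheme := hU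
      haveI : LocallyOfFinitePresentation f := Groth.L23.lfp_of_lft_locallyNoetherian f
      refine not_subsingleton_stalk hd hC z
        ((Groth.L06.ConormalStalk.isOpenImmersion_iff_subsingleton f z).1 ⟨f ⁻¹ᵁ U, hzU, ?_⟩)
      have hbij : Function.Bijective (f.app U) := by
        refine ⟨?_, f.app_surjective U hU⟩
        rw [RingHom.injective_iff_ker_eq_bot, ← hker, Scheme.Hom.ker_apply]
      haveI : IsAffine (f ⁻¹ᵁ U).toScheme := hU.preimage f
      haveI : IsIso (f ∣_ U).appTop := by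
        rw [ConcreteCategory.isIso_iff_bijective, morphismRestrict_appTop]
        have e' : ∀ U', U' = U → Function.Bijective (f.app U') := fun _ e => e ▸ hbij
        exact (ConcreteCategory.bijective_of_isIso (X.presheaf.map _)).comp (e' _ (Scheme.Opens.ι_image_top _))
      haveI : IsIso (f ∣_ U) := by
        show MorphismProperty.isomorphisms Scheme.{u} (f ∣_ U)
        exact ((MorphismProperty.isomorphisms Scheme.{u}).arrow_mk_iso_iff
          (arrowIsoSpecΓOfIsAffine (f ∣_ U))).mpr (inferInstanceAs (IsIso (Spec.map _)))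
      rw [← morphismRestrict_ι f U]
      infer_instance
    obtain ⟨g, hg, hq, h0⟩ := exists_fin hm hrs.toIsWeaklyRegular
    exact ⟨⟨U, hU⟩, m, g, hzU, hker.trans hg, hq, h0⟩
  refine ⟨fun y hy => ?_, dense_compl _ fun y hy => ?_⟩
  · obtain ⟨U, m, g, hyU, hI, hq, -⟩ := key y hy
    exact ⟨U, m, g, hyU, Nat.zero_le _, hI, hq⟩
  · obtain ⟨U, m, g, hyU, hI, -, h0⟩ := key y hy
    exact ⟨U, hyU, g 0, hI ▸ Ideal.subset_span ⟨0, rfl⟩, h0⟩

end Groth.L03.BlowAcyc
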