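import Groth.Agent.L03.BlowAcyc.Global

/-!
# Higher direct images of modules on the exceptional divisor, and `σ_*` of the inverse
-/

set_option autoImplicit false
set_option linter.style.haveILetI false
set_option backward.isDefEq.respectTransparency false

universe u

open CategoryTheory CategoryTheory.Limits AlgebraicGeometry TopologicalSpace Opposite
open Groth.L11.BlowSmooth (sI)
open Groth.L13.BU (idealOf)
open Groth.L13.BlowP1 (exIdeal exι)
open Groth.L13.PointBlow (pre preι opensRange_preι)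
open Groth.L00.Tensor (tensorIso tensorComm)

noncomputable section

namespace Groth.L03.BlowAcyc

variable {X Y : Scheme.{u}} {σ : X ⟶ Y} {I : Y.IdealSheafData} {n : ℕ}

variable (σ I) in
/-- `ι_* ι^* M` for the exceptional divisor. -/
abbrev excPart (M : X.Modules) : X.Modules :=
  (Scheme.Modules.pushforward (BlowUp.exceptional σ I).subschemeι).obj
    ((Scheme.Modules.pullback (BlowUp.exceptional σ I).subschemeι).obj M)

/-- Restriction of `ι_* ι^* M` to an open subscheme. -/
theorem nonempty_restrict_pushPull {Z : Scheme.{u}} (j : Z ⟶ X) [IsOpenImmersion j] (E : X.IdealSheafData)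
    (C : Z.IdealSheafData) (hC : E.comap j = C) (M : X.Modules) :
    Nonempty (((Scheme.Modules.pushforward E.subschemeι).obj ((Scheme.Modules.pullback E.subschemeι).obj M)).restrict j ≅
      (Scheme.Modules.pushforward C.subschemeι).obj ((Scheme.Modules.pullback C.subschemeι).obj
        ((Scheme.Modules.pullback j).obj M))) := by
  subst hC
  let j' := (E.comapIso j).hom ≫ pullback.snd _ _
  have hj : j' ≫ E.subschemeι = (E.comap j).subschemeι ≫ j := by
    simp only [j', Category.assoc, ← pullback.condition, Scheme.IdealSheafData.comapIso_hom_fst_assoc]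
  have hrange : j'.opensRange = E.subschemeι ⁻¹ᵁ j.opensRange := by
    rw [Scheme.Hom.opensRange_comp_of_isIso, Scheme.Hom.opensRange_pullbackSnd]
  exact ⟨(Groth.L17.PushQCoh.pushRestrictIso E.subschemeι j j' (E.comap j).subschemeι hrange.ge hj.symm).app _ ≪≫
    (Scheme.Modules.pushforward (E.comap j).subschemeι).mapIso
      ((Scheme.Modules.restrictFunctorIsoPullback j').app _ ≪≫ (Scheme.Modules.pullbackComp j' E.subschemeι).app M ≪≫
        (Scheme.Modules.pullbackCongr hj).app M ≪≫ ((Scheme.Modules.pullbackComp _ j).app M).symm)⟩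

theorem nonempty_excPart_pre (U : Y.affineOpens) {m : ℕ} {f : Fin (m + 1) → Γ(Y, U.1)}
    (hI : I.ideal U = sI f) (M : X.Modules) :
    Nonempty ((excPart σ I M).restrict (preι σ U) ≅
      (Scheme.Modules.pushforward (exι f (pullback.fst U.2.fromSpec σ))).obj
        ((Scheme.Modules.pullback (exι f (pullback.fst U.2.fromSpec σ))).obj
          ((Scheme.Modules.pullback (preι σ U)).obj M))) :=
  nonempty_restrict_pushPull (preι σ U) _ _ (exIdeal_pre U hI).symm M

variable [IsLocallyNoetherian Y]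

/-- Vanishing on the exceptional part of the charts implies no higher direct images. -/
theorem isZero_RpushAb_excPart (hb : BlowUp.IsBlowUp σ I) (hI : LocQR I n) (M : X.Modules) [Coh.IsQCoh M]
    (h : ∀ (U : Y.affineOpens) (m : ℕ) (f : Fin (m + 1) → Γ(Y, U.1)), n ≤ m → I.ideal U = sI f →
      CAlgX.IsQuasiRegular f → ∀ q : ℕ,
        Subsingleton (Coh.HH (pre σ U) ((Scheme.Modules.pushforward (exι f (pullback.fst U.2.fromSpec σ))).obj
          ((Scheme.Modules.pullback (exι f (pullback.fst U.2.fromSpec σ))).obj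
            ((Scheme.Modules.pullback (preι σ U)).obj M))) (q + 1)))
    (i : ℕ) (hi : 0 < i) : IsZero ((Coh.RpushAb σ i).obj (Coh.toAb (excPart σ I M))) := by
  haveI := isProper hb
  haveI := Groth.L16.AffineBC.isQCoh_pullback (BlowUp.exceptional σ I).subschemeι M
  haveI : Coh.IsQCoh (excPart σ I M) := Groth.L16.QcqsPush.isQCoh_push _ _
  refine isZero_RpushAb_of_charts hb _ (fun y hy => ?_) i hi
  obtain ⟨U, m, f, hyU, hm, hUI, hf⟩ := hI y hy
  obtain ⟨e⟩ := nonempty_excPart_pre (σ := σ) U hUI M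
  exact ⟨U, hyU, fun q => Groth.L14.LocHilbLift.subsingleton_HH_of_iso
    (e.symm ≪≫ (Scheme.Modules.restrictFunctorIsoPullback (preι σ U)).app _) _ (h U m f hm hUI hf q)⟩

theorem isZero_RpushAb_excPart_pow (hb : BlowUp.IsBlowUp σ I) (hI : LocQR I n) (r i : ℕ) (hi : 0 < i) :
    IsZero ((Coh.RpushAb σ i).obj (Coh.toAb (excPart σ I (ClSub.idealMod (BlowUp.exceptional σ I ^ r))))) := by
  have hinv : PicF.IsInvertible (ClSub.idealMod (BlowUp.exceptional σ I)) :=
    (Groth.Agent.L19.IdealInvertible.isEffCartier_iff _).2 hb.1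
  obtain ⟨hr, ⟨er⟩⟩ := Groth.L13.PointBlow.nonempty_idealMod_pow hinv r
  haveI := Groth.L21.Extend.isQCoh_of_isInvertible hr
  refine isZero_RpushAb_excPart hb hI _ (fun U m f _ hUI hf q => ?_) i hi
  obtain ⟨g⟩ := nonempty_idealMod_pre (σ := σ) U hUI
  let p := pullback.fst U.2.fromSpec σ
  exact Groth.L14.LocHilbLift.subsingleton_HH_of_iso
    ((Scheme.Modules.pushforward (exι f p)).mapIso ((Scheme.Modules.pullback (exι f p)).mapIso
      ((Scheme.Modules.pullback (preι σ U)).mapIso er ≪≫ Groth.L18.Ample.pullPow _ _ r ≪≫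
        Groth.L00.Tensor.tensorPowIso g r).symm)) _
    (subsingleton_HH_exc_pow (isBlowUp_pre hb U hUI) hf r (q + 1) (Nat.succ_pos q))

theorem isZero_RpushAb_excPart_inverse (hb : BlowUp.IsBlowUp σ I) (hI : LocQR I n) (hn : 1 ≤ n) {L' : X.Modules}
    (hL' : ClSub.IsInverseOf L' (ClSub.idealMod (BlowUp.exceptional σ I))) (i : ℕ) (hi : 0 < i) :
    IsZero ((Coh.RpushAb σ i).obj (Coh.toAb (excPart σ I L'))) := by
  have hinv : PicF.IsInvertible (ClSub.idealMod (BlowUp.exceptional σ I)) :=
    (Groth.Agent.L19.IdealInvertible.isEffCartier_iff _).2 hb.1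
  haveI := Groth.L21.Extend.isQCoh_of_isInvertible (Groth.L13.PointBlow.isInvertible_of_isInverseOf hinv hL')
  exact isZero_RpushAb_excPart hb hI _ (fun U m f hm hUI hf q =>
    subsingleton_HH_exc_inverse (isBlowUp_pre hb U hUI) hf (hn.trans hm) (isInverseOf_pre U hUI hL') (q + 1)) i hi

theorem isZero_push_excPart_inverse (hb : BlowUp.IsBlowUp σ I) (hI : LocQR I n) (hn : 1 ≤ n) {L' : X.Modules}
    (hL' : ClSub.IsInverseOf L' (ClSub.idealMod (BlowUp.exceptional σ I))) :
    IsZero ((Scheme.Modules.pushforward σ).obj (excPart σ I L')) := by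
  haveI := isProper hb
  have hinv : PicF.IsInvertible (ClSub.idealMod (BlowUp.exceptional σ I)) :=
    (Groth.Agent.L19.IdealInvertible.isEffCartier_iff _).2 hb.1
  haveI := Groth.L21.Extend.isQCoh_of_isInvertible (Groth.L13.PointBlow.isInvertible_of_isInverseOf hinv hL')
  haveI := Groth.L16.AffineBC.isQCoh_pullback (BlowUp.exceptional σ I).subschemeι L'
  haveI : Coh.IsQCoh (excPart σ I L') := Groth.L16.QcqsPush.isQCoh_push _ _
  have key : ∀ y : Y, ∃ U : Y.affineOpens, y ∈ U.1 ∧ Subsingleton Γ(excPart σ I L', preι σ U ''ᵁ ⊤) := by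
    intro y
    by_cases hy : y ∈ I.support
    · obtain ⟨U, m, f, hyU, hm, hUI, hf⟩ := hI y hy
      refine ⟨U, hyU, ?_⟩
      obtain ⟨e⟩ := nonempty_excPart_pre (σ := σ) U hUI L'
      have h0 := Groth.L14.LocHilbLift.subsingleton_HH_of_iso e.symm 0
        (subsingleton_HH_exc_inverse (isBlowUp_pre hb U hUI) hf (hn.trans hm) (isInverseOf_pre U hUI hL') 0)
      let hT : Limits.IsTerminal (⊤ : (pre σ U).Opens) :=
        Limits.IsTerminal.ofUniqueHom (fun V => homOfLE le_top) (fun _ _ => Subsingleton.elim _ _)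
      haveI := h0
      exact (CategoryTheory.Sheaf.H.equiv₀ (Coh.toAb ((excPart σ I L').restrict (preι σ U))) hT).toEquiv.symm.subsingleton
    · obtain ⟨V, hV, hyV, hVI⟩ := exists_isAffineOpen_mem_and_subset (x := y) (U := I.support.compl) hy
      refine ⟨⟨V, hV⟩, hyV, ?_⟩
      show Subsingleton Γ((Scheme.Modules.pullback (BlowUp.exceptional σ I).subschemeι).obj L',
        (BlowUp.exceptional σ I).subschemeι ⁻¹ᵁ (preι σ ⟨V, hV⟩ ''ᵁ ⊤))
      rw [show (BlowUp.exceptional σ I).subschemeι ⁻¹ᵁ (preι σ ⟨V, hV⟩ ''ᵁ ⊤) = ⊥ from eq_bot_iff.2 fun z hz => by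
        rw [Scheme.Hom.image_top_eq_opensRange, opensRange_preι] at hz
        have h2 : (BlowUp.exceptional σ I).subschemeι z ∈ ((BlowUp.exceptional σ I).support : Set X) := by
          rw [← Scheme.IdealSheafData.range_subschemeι]; exact ⟨z, rfl⟩
        exact absurd ((Scheme.IdealSheafData.support_comap I σ).le h2) (hVI hz)]
      exact Groth.L18.Ample.subsingleton_sections_bot _ rfl
  choose U hyU hU using key
  refine Groth.L21.Mod.isZero_of_restrict (fun y : Y => (U y).2.fromSpec)
    (fun y => ⟨y, (U y).2.range_fromSpec.ge (hyU y)⟩) _ fun y => ?_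
  let e := (Groth.L17.PushQCoh.pushRestrictIso σ (U y).2.fromSpec (preι σ (U y)) (pullback.fst _ σ)
    (by rw [(U y).2.opensRange_fromSpec, opensRange_preι]) pullback.condition).app (excPart σ I L')
  haveI : Coh.IsQCoh ((excPart σ I L').restrict (preι σ (U y))) := Scheme.Modules.isQuasicoherent_restrictFunctor _ _
  haveI : Coh.IsQCoh ((Scheme.Modules.pushforward (pullback.fst (U y).2.fromSpec σ)).obj
      ((excPart σ I L').restrict (preι σ (U y)))) := Groth.L16.QcqsPush.isQCoh_push _ _
  refine (Groth.L13.PairBlow.isZero_spec ((Scheme.Modules.pushforward (pullback.fst (U y).2.fromSpec σ)).obj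
    ((excPart σ I L').restrict (preι σ (U y)))) ?_).of_iso e
  exact hU y

/-- **The direct image of the inverse of the exceptional ideal is trivial.** -/
theorem nonempty_push_inverse (hb : BlowUp.IsBlowUp σ I) (hI : LocQR I n) (hn : 1 ≤ n)
    (hY : Pi1.IsNormalScheme Y) (hd : Dense ((I.support : Set Y)ᶜ)) {L' : X.Modules}
    (hL' : ClSub.IsInverseOf L' (ClSub.idealMod (BlowUp.exceptional σ I))) :
    Nonempty ((Scheme.Modules.pushforward σ).obj L' ≅ Coh.structureModule Y) := by
  have hinv : PicF.IsInvertible (ClSub.idealMod (BlowUp.exceptional σ I)) :=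
    (Groth.Agent.L19.IdealInvertible.isEffCartier_iff _).2 hb.1
  have hL'i := Groth.L13.PointBlow.isInvertible_of_isInverseOf hinv hL'
  obtain ⟨S, hS, e₁, e₂, -, ⟨e₃⟩⟩ := Groth.L13.PairBlow.exists_seq (BlowUp.exceptional σ I)
    (Groth.L16.Existence.isFinLocFree_of_isInvertible hL'i)
  let F := Scheme.Modules.pushforward σ
  haveI : F.IsRightAdjoint := (Scheme.Modules.pullbackPushforwardAdjunction σ).isRightAdjoint
  haveI := preservesBinaryBiproducts_of_preservesBinaryProducts F
  haveI : F.Additive := Functor.additive_of_preservesBinaryBiproducts _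
  have h3 : IsZero (F.obj S.X₃) := (isZero_push_excPart_inverse hb hI hn hL').of_iso (F.mapIso e₃)
  haveI := hS.mono_f
  haveI hmono : Mono (S.map F).f := inferInstanceAs (Mono (F.map S.f))
  have hex : (S.map F).Exact := hS.exact.map_of_mono_of_preservesKernel F hS.mono_f inferInstance
  haveI : Epi (S.map F).f := hex.epi_f (h3.eq_of_tgt _ _)
  haveI : IsIso (F.map S.f) := isIso_of_mono_of_epi (S.map F).f
  haveI := isIso_unit hb hY hd (Groth.L16.Existence.isFinLocFree_of_isInvertible
    (Groth.L18.Ample.isInvertible_structureModule Y))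
  exact ⟨F.mapIso e₂.symm ≪≫ (asIso (F.map S.f)).symm ≪≫
    F.mapIso (e₁ ≪≫ tensorComm _ L' ≪≫ hL'.some ≪≫ (Groth.L29.LocFree.pullbackUnitIso σ).symm) ≪≫
    (asIso ((Scheme.Modules.pullbackPushforwardAdjunction σ).unit.app (Coh.structureModule Y))).symm⟩

end Groth.L03.BlowAcyc
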