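import Groth.Agent.L13.Contraction.Basic

/-!
# Functions on a blow-up of a normal scheme come from the base
-/

set_option autoImplicit false
set_option linter.style.haveILetI false
set_option backward.isDefEq.respectTransparency false

universe u

open CategoryTheory CategoryTheory.Limits AlgebraicGeometry TopologicalSpace Opposite

noncomputable section

namespace Groth.L03.BlowAcyc

variable {X Y : Scheme.{u}}

theorem bijective_app_integral [IsIntegral Y] (hY : Pi1.IsNormalScheme Y) (σ : X ⟶ Y) [UniversallyClosed σ]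
    {I : Y.IdealSheafData} (hb : BlowUp.IsBlowUp σ I) (hne : I ≠ ⊥) (V : Y.Opens) :
    Function.Bijective (σ.app V) := by
  obtain ⟨_, he, hiso⟩ := Groth.L16.Blow.isIntegral_and_birational hb hne
  refine Groth.L17.bijective_app_of_affine σ (Groth.Agent.S2422.bijective_app_affine hY σ
    (specializes_of_eq he) fun z _ => ?_) V
  haveI := hiso
  haveI : IsIso (Y.presheaf.stalkSpecializes (specializes_of_eq he)) :=
    (Y.presheaf.stalkCongr (.of_eq he)).symm.isIso_hom
  exact ((ConcreteCategory.isIso_iff_bijective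
    (Y.presheaf.stalkSpecializes (specializes_of_eq he) ≫ σ.stalkMap (genericPoint X))).1 inferInstance).2 z

theorem isBlowUp_restrict {σ : X ⟶ Y} {I : Y.IdealSheafData} (hb : BlowUp.IsBlowUp σ I) (W : Y.Opens) :
    BlowUp.IsBlowUp (σ ∣_ W) (I.comap W.ι) := by
  have h := Groth.L13.Contraction.isBlowUp_of_iso_source (pullbackSymmetry σ W.ι)
    (Groth.L13.BU.isBlowUp_pullback W.ι hb)
  rw [pullbackSymmetry_hom_comp_fst] at h
  have h' := Groth.L13.Contraction.isBlowUp_of_iso_source (pullbackRestrictIsoRestrict σ W).symm h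
  simpa [morphismRestrict] using h'

/-- Functions on a blow-up of a normal locally Noetherian scheme come from the base. -/
theorem bijective_app [IsLocallyNoetherian Y] (hY : Pi1.IsNormalScheme Y) (σ : X ⟶ Y) [UniversallyClosed σ]
    {I : Y.IdealSheafData} (hb : BlowUp.IsBlowUp σ I) (hd : Dense ((I.support : Set Y)ᶜ)) (V : Y.Opens) :
    Function.Bijective (σ.app V) := by
  have key : ∀ y : Y, ∃ U : Y.Opens, y ∈ U ∧ IsIntegral U.toScheme := fun y => by
    haveI := (hY y).1
    obtain ⟨U, hyU, -, hU⟩ := Groth.L07.RatSection.exists_integral_nhd y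
    exact ⟨U, hyU, hU⟩
  choose U hyU hUint using key
  let ok : Y.Opens → Prop := fun W => (W : Set Y).Nonempty ∧ ∃ y, W ≤ U y
  have hok : ∀ W, ok W → Function.Bijective (σ.app W) := by
    rintro W ⟨⟨w, hw⟩, y, hle⟩
    haveI := hUint y
    haveI : Nonempty W.toScheme := ⟨⟨w, hw⟩⟩
    haveI : IsIntegral W.toScheme := isIntegral_of_isOpenImmersion (Y.homOfLE hle)
    have hn : Pi1.IsNormalScheme W.toScheme := fun z => by
      haveI := (hY z.1).1
      haveI := (hY z.1).2
      exact ⟨(W.stalkIso z).commRingCatIsoToRingEquiv.toMulEquiv.isDomain _,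
        IsIntegrallyClosed.of_equiv (W.stalkIso z).symm.commRingCatIsoToRingEquiv⟩
    have hne : I.comap W.ι ≠ ⊥ := fun hbot => by
      obtain ⟨z, hzW, hzI⟩ := hd.inter_open_nonempty (W : Set Y) W.isOpen ⟨w, hw⟩
      have h1 : (⟨z, hzW⟩ : W.toScheme) ∈ ((I.comap W.ι).support : Set W.toScheme) := by
        rw [hbot, Scheme.IdealSheafData.support_bot]; trivial
      rw [Scheme.IdealSheafData.support_comap] at h1
      exact hzI h1
    have htop := bijective_app_integral hn (σ ∣_ W) (isBlowUp_restrict hb W) hne ⊤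
    haveI : IsIso ((σ ∣_ W).app ⊤) := (ConcreteCategory.isIso_iff_bijective _).2 htop
    haveI : IsIso (σ.app W) := by
      have h1 : IsIso ((σ ∣_ W).appTop) := inferInstanceAs (IsIso ((σ ∣_ W).app ⊤))
      rw [morphismRestrict_appTop] at h1
      have h2 : IsIso (σ.app (W.ι ''ᵁ ⊤)) := @IsIso.of_isIso_comp_right _ _ _ _ _ _ _ inferInstance h1
      rwa [W.ι_image_top] at h2
    exact ConcreteCategory.bijective_of_isIso _
  have hbasis : Opens.IsBasis (setOf ok) :=
    Opens.isBasis_iff_nbhd.2 fun {O z} hz =>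
      ⟨O ⊓ U z, ⟨⟨z, hz, hyU z⟩, z, inf_le_right⟩, ⟨hz, hyU z⟩, inf_le_left⟩
  let G : TopCat.Sheaf CommRingCat.{u} Y := (TopCat.Sheaf.pushforward CommRingCat σ.base).obj X.sheaf
  let α : Y.sheaf ⟶ G := ⟨σ.c⟩
  refine TopCat.Presheaf.app_bijective_of_stalkFunctor_map_bijective α V fun z hz => ⟨?_, fun t => ?_⟩
  · exact TopCat.Presheaf.stalkFunctor_map_injective_of_isBasis (α := α.1) hbasis (fun W hW => (hok W hW).1) z
  · obtain ⟨O, hzO, s, rfl⟩ := TopCat.Presheaf.exists_germ_eq G.1 t
    obtain ⟨W, hW, hzW, hWO⟩ := Opens.isBasis_iff_nbhd.1 hbasis hzO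
    obtain ⟨c, hc⟩ := (hok W hW).2 (G.1.map (homOfLE hWO).op s)
    exact ⟨Y.presheaf.germ W z hzW c, (TopCat.Presheaf.stalkFunctor_map_germ_apply W z hzW α.1 c).trans
      ((congrArg (TopCat.Presheaf.germ G.1 W z hzW) hc).trans (TopCat.Presheaf.germ_res_apply G.1 _ _ hzW s))⟩

end Groth.L03.BlowAcyc
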