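import Groth.Agent.L03.BlowAcyc.Affine
import Groth.Agent.L03.BlowAcyc.Unit
import Groth.Agent.L03.QuasiRegularBC
import Groth.Agent.L13.PointBlow.Acyclic
import Groth.Agent.L13.PairBlow.Local
import Groth.Agent.L13.PairBlow.Descend
import Groth.Agent.L16.NegPow.Affine
import Groth.Agent.L17.ToAbRpush
import Groth.Agent.L20.DescLocus.UnitLocFree

/-!
# Blow-ups in quasi-regular centres: higher direct images
-/

set_option autoImplicit false
set_option linter.style.haveILetI false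
set_option backward.isDefEq.respectTransparency false

universe u

open CategoryTheory CategoryTheory.Limits AlgebraicGeometry TopologicalSpace
open Groth.L11.BlowSmooth (sI)
open Groth.L13.BU (idealOf)
open Groth.L13.BlowP1 (exIdeal exι)
open Groth.L13.PointBlow (pre preι opensRange_preι)

noncomputable section

namespace Groth.L03.BlowAcyc

variable {X Y : Scheme.{u}}

/-- The centre is locally cut out by a quasi-regular sequence of length more than `n`. -/
def LocQR (I : Y.IdealSheafData) (n : ℕ) : Prop :=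
  ∀ y ∈ I.support, ∃ (U : Y.affineOpens) (m : ℕ) (f : Fin (m + 1) → Γ(Y, U.1)),
    y ∈ U.1 ∧ n ≤ m ∧ I.ideal U = sI f ∧ CAlgX.IsQuasiRegular f

/-- The charts of the centre may be taken small. -/
theorem LocQR.exists_le {I : Y.IdealSheafData} {n : ℕ} (h : LocQR I n) {y : Y} (hy : y ∈ I.support)
    {W : Y.Opens} (hyW : y ∈ W) :
    ∃ (U : Y.affineOpens) (m : ℕ) (f : Fin (m + 1) → Γ(Y, U.1)),
      y ∈ U.1 ∧ U.1 ≤ W ∧ n ≤ m ∧ I.ideal U = sI f ∧ CAlgX.IsQuasiRegular f := by
  obtain ⟨U, m, f, hyU, hm, hI, hf⟩ := h y hy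
  obtain ⟨g, hgW, hyg⟩ := U.2.exists_basicOpen_le ⟨y, hyW⟩ hyU
  haveI := U.2.isLocalization_basicOpen g
  refine ⟨Y.affineBasicOpen g, m, fun i => algebraMap Γ(Y, U.1) Γ(Y, Y.basicOpen g) (f i), hyg, hgW, hm, ?_,
    Groth.L03.QuasiRegularBC.localization (Submonoid.powers g) Γ(Y, Y.basicOpen g) f hf⟩
  rw [← I.map_ideal_basicOpen U g, hI]
  show Ideal.map _ (Ideal.span (Set.range f)) = Ideal.span _
  rw [Ideal.map_span, ← Set.range_comp]
  rfl

section Pre

variable {σ : X ⟶ Y} {I : Y.IdealSheafData}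

theorem isBlowUp_pre (hb : BlowUp.IsBlowUp σ I) (U : Y.affineOpens) {m : ℕ} {f : Fin (m + 1) → Γ(Y, U.1)}
    (hI : I.ideal U = sI f) : BlowUp.IsBlowUp (pullback.fst U.2.fromSpec σ) (idealOf (sI f)) := by
  rw [← hI, ← Groth.L11.BlowSmooth.comap_fromSpec]
  exact Groth.L13.BU.isBlowUp_pullback U.2.fromSpec hb

theorem exIdeal_pre (U : Y.affineOpens) {m : ℕ} {f : Fin (m + 1) → Γ(Y, U.1)} (hI : I.ideal U = sI f) :
    exIdeal f (pullback.fst U.2.fromSpec σ) = (BlowUp.exceptional σ I).comap (preι σ U) := by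
  rw [exIdeal, BlowUp.exceptional, ← hI, ← Groth.L11.BlowSmooth.comap_fromSpec,
    ← Scheme.IdealSheafData.comap_comp, ← Scheme.IdealSheafData.comap_comp, pullback.condition]

/-- Vanishing on the charts at the centre implies no higher direct images. -/
theorem isZero_RpushAb_of_charts (hb : BlowUp.IsBlowUp σ I) [QuasiCompact σ] [QuasiSeparated σ]
    (M : X.Modules) [Coh.IsQCoh M]
    (hv : ∀ y ∈ I.support, ∃ U : Y.affineOpens, y ∈ U.1 ∧ ∀ q : ℕ,
      Subsingleton (Coh.HH (pre σ U) ((Scheme.Modules.pullback (preι σ U)).obj M) (q + 1)))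
    (i : ℕ) (hi : 0 < i) : IsZero ((Coh.RpushAb σ i).obj (Coh.toAb M)) := by
  haveI := Groth.L17.PushQCoh.hasInjectiveResolutions X
  obtain ⟨q, rfl⟩ : ∃ q, i = q + 1 := ⟨i - 1, by omega⟩
  have key : ∀ y : Y, ∃ U : Y.affineOpens, y ∈ U.1 ∧
      Subsingleton (Coh.HH (pre σ U) (M.restrict (preι σ U)) (q + 1)) := by
    intro y
    by_cases hy : y ∈ I.support
    · obtain ⟨U, hyU, hU⟩ := hv y hy
      exact ⟨U, hyU, Groth.L14.LocHilbLift.subsingleton_HH_of_iso
        ((Scheme.Modules.restrictFunctorIsoPullback (preι σ U)).app M).symm (q + 1) (hU q)⟩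
    · obtain ⟨V, hV, hyV, hVI⟩ := exists_isAffineOpen_mem_and_subset (x := y) (U := I.support.compl) hy
      refine ⟨⟨V, hV⟩, hyV, ?_⟩
      haveI : Coh.IsQCoh (M.restrict (preι σ ⟨V, hV⟩)) := Scheme.Modules.isQuasicoherent_restrictFunctor _ M
      have hT : IsAffineOpen (⊤ : (pre σ ⟨V, hV⟩).Opens) := by
        have h := (Groth.L13.PairBlow.isAffineOpen_preimage_off hb hV hVI).preimage_of_isOpenImmersion
          (preι σ ⟨V, hV⟩) (opensRange_preι σ ⟨V, hV⟩).ge
        rwa [show preι σ ⟨V, hV⟩ ⁻¹ᵁ (σ ⁻¹ᵁ V) = ⊤ from eq_top_iff.2 fun w _ =>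
          (opensRange_preι σ ⟨V, hV⟩).le ⟨w, rfl⟩] at h
      exact @Equiv.subsingleton _ _ (Groth.L17.hTopEquiv (X := (pre σ ⟨V, hV⟩).toTopCat) _ (q + 1)).toEquiv
        (subsingleton_of_forall_eq 0 (Groth.L17.hu_affine_eq_zero _ hT q))
  choose U hyU hU using key
  have h0 : IsZero ((Coh.Rpush σ (q + 1)).obj M) := by
    refine Groth.L21.Mod.isZero_of_restrict (fun y : Y => (U y).2.fromSpec)
      (fun y => ⟨y, (U y).2.range_fromSpec.ge (hyU y)⟩) _ fun y => ?_
    haveI := Groth.L17.PushQCoh.hasInjectiveResolutions (pre σ (U y))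
    obtain ⟨e⟩ := Groth.L17.PushQCoh.nonempty_Rpush_restrict_iso σ (U y).2.fromSpec (preι σ (U y))
      (pullback.fst _ σ) (by rw [(U y).2.opensRange_fromSpec, opensRange_preι]) pullback.condition M (q + 1)
    haveI : Coh.IsQCoh (M.restrict (preι σ (U y))) := Scheme.Modules.isQuasicoherent_restrictFunctor _ M
    haveI := Groth.L17.PushQCoh.isQCoh_Rpush (pullback.fst (U y).2.fromSpec σ) (M.restrict (preι σ (U y))) (q + 1)
    refine (Groth.L13.PairBlow.isZero_spec _ ?_).of_iso e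
    obtain ⟨ε⟩ := Groth.L17.ProperCoh.nonempty_Γ_Rpush_equiv (pullback.fst (U y).2.fromSpec σ)
      (M.restrict (preι σ (U y))) (q + 1)
    haveI := hU y
    exact ε.symm.toEquiv.subsingleton
  obtain ⟨e⟩ := Groth.L17.nonempty_toAb_Rpush_iso σ M (q + 1)
  exact ((Groth.L17.toAbShF Y).map_isZero h0).of_iso e.symm

theorem nonempty_idealMod_pre (U : Y.affineOpens) {m : ℕ}
    {f : Fin (m + 1) → Γ(Y, U.1)} (hI : I.ideal U = sI f) :
    Nonempty ((Scheme.Modules.pullback (preι σ U)).obj (ClSub.idealMod (BlowUp.exceptional σ I)) ≅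
      L f (pullback.fst U.2.fromSpec σ)) := by
  obtain ⟨g⟩ := Groth.L13.PairBlow.nonempty_restrict_idealMod (preι σ U) (BlowUp.exceptional σ I)
  exact ⟨((Scheme.Modules.restrictFunctorIsoPullback (preι σ U)).app _).symm ≪≫ g ≪≫
    eqToIso (congrArg ClSub.idealMod (exIdeal_pre U hI).symm)⟩

theorem isInverseOf_pre (U : Y.affineOpens) {m : ℕ}
    {f : Fin (m + 1) → Γ(Y, U.1)} (hI : I.ideal U = sI f) {L' : X.Modules}
    (hL' : ClSub.IsInverseOf L' (ClSub.idealMod (BlowUp.exceptional σ I))) :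
    ClSub.IsInverseOf ((Scheme.Modules.pullback (preι σ U)).obj L') (L f (pullback.fst U.2.fromSpec σ)) := by
  obtain ⟨g⟩ := nonempty_idealMod_pre (σ := σ) U hI
  exact ⟨Groth.L00.Tensor.tensorIso (Iso.refl _) g.symm ≪≫ Groth.L29.DC.PullTensor.pullTensor _ _ _ ≪≫
    (Scheme.Modules.pullback (preι σ U)).mapIso hL'.some ≪≫ Groth.L29.LocFree.pullbackUnitIso _⟩

end Pre

variable [IsLocallyNoetherian Y] {σ : X ⟶ Y} {I : Y.IdealSheafData} {n : ℕ}

theorem isProper (hb : BlowUp.IsBlowUp σ I) : IsProper σ :=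
  Groth.L13.BU.isProper_blowUp hb fun U =>
    haveI : IsNoetherianRing Γ(Y, U.1) := IsLocallyNoetherian.component_noetherian U
    IsNoetherian.noetherian _

/-- The pullback of a finite locally free module along a blow-up in a quasi-regular centre has no higher
direct images. -/
theorem isZero_RpushAb_pullback (hb : BlowUp.IsBlowUp σ I) (hI : LocQR I n) {E : Y.Modules}
    (hE : FlatMod.IsFinLocFree E) (i : ℕ) (hi : 0 < i) :
    IsZero ((Coh.RpushAb σ i).obj (Coh.toAb ((Scheme.Modules.pullback σ).obj E))) := by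
  haveI := isProper hb
  haveI : Coh.IsQCoh E := Groth.L29.DC.PCQCoh.isQCoh_of_isFinLocFree hE
  haveI := Groth.L16.AffineBC.isQCoh_pullback σ E
  refine isZero_RpushAb_of_charts hb _ (fun y hy => ?_) i hi
  obtain ⟨W, r, hyW, ⟨eW⟩⟩ := hE y
  obtain ⟨U, m, f, hyU, hUW, -, hUI, hf⟩ := hI.exists_le hy hyW
  refine ⟨U, hyU, fun q => ?_⟩
  haveI : IsNoetherianRing Γ(Y, U.1) := IsLocallyNoetherian.component_noetherian U
  let p := pullback.fst U.2.fromSpec σ
  let j := IsOpenImmersion.lift W.ι U.2.fromSpec (by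
    rw [U.2.range_fromSpec, Scheme.Opens.range_ι]; exact hUW)
  have hj : j ≫ W.ι = U.2.fromSpec := IsOpenImmersion.lift_fac _ _ _
  let e : (Scheme.Modules.pullback (preι σ U)).obj ((Scheme.Modules.pullback σ).obj E) ≅
      CohB1.tensorMod (FlatMod.freeMod (pre σ U) r) (Coh.structureModule _) :=
    (Scheme.Modules.pullbackComp (preι σ U) σ).app E ≪≫
      (Scheme.Modules.pullbackCongr (show preι σ U ≫ σ = (p ≫ j) ≫ W.ι by
        rw [Category.assoc, hj]; exact pullback.condition.symm)).app E ≪≫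
      ((Scheme.Modules.pullbackComp (p ≫ j) W.ι).app E).symm ≪≫
      (Scheme.Modules.pullback (p ≫ j)).mapIso (((Scheme.Modules.restrictFunctorIsoPullback W.ι).app E).symm ≪≫ eW) ≪≫
      Groth.L29.LocFree.pullbackFreeIso (p ≫ j) r ≪≫ (Groth.L00.Tensor.tensorUnitRight _).symm
  exact Groth.L14.LocHilbLift.subsingleton_HH_of_iso e.symm _
    (Groth.L16.NegPow.subsingleton_HH_freeTensor (Coh.structureModule (pre σ U)) r _
      (subsingleton_HH_pow (isBlowUp_pre hb U hUI) hf 0 (q + 1) (Nat.succ_pos q)))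

/-- The unit at finite locally free modules over a normal base is an isomorphism. -/
theorem isIso_unit (hb : BlowUp.IsBlowUp σ I) (hY : Pi1.IsNormalScheme Y) (hd : Dense ((I.support : Set Y)ᶜ))
    {E : Y.Modules} (hE : FlatMod.IsFinLocFree E) :
    IsIso ((Scheme.Modules.pullbackPushforwardAdjunction σ).unit.app E) :=
  haveI := isProper hb
  Groth.L20.DescLocus.isIso_unit_of_isFinLocFree σ
    (fun U => (ConcreteCategory.isIso_iff_bijective _).2 (bijective_app hY σ hb hd U)) hE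

end Groth.L03.BlowAcyc
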