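import Groth.Agent.L18.ProjSpaceUP
import Groth.Agent.L16.ProjSpace.Sections
import Groth.Agent.L03.BlowPt.Pair
import Mathlib.RingTheory.Nullstellensatz

/-!
# Jets of forms at a closed point of projective space
-/

set_option autoImplicit false
set_option linter.style.haveILetI false
set_option backward.isDefEq.respectTransparency false

universe u

open CategoryTheory AlgebraicGeometry TopologicalSpace Opposite MvPolynomial HomogeneousLocalization
open Groth.L18.Frame (rs rs_rs ro IsFrame)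
open Groth.L03.BlowPt (ptI ideal_ptI isMaximal_ptI)

noncomputable section

namespace Groth.L03.BlowAcyc

variable {n : ℕ} {R : Type u} [CommRing R]

local notation "𝒢" => CohB1.polyGrading n R

/-- A homogeneous polynomial evaluated at the coordinates of a chart. -/
theorem eval_coord_eq_mk (l : Fin (n + 1)) {c : ℕ} (x : MvPolynomial (Fin (n + 1)) R) (hx : x ∈ 𝒢 (c • 1)) :
    eval₂Hom (Groth.L18.PS.chartScalar n R l) (Groth.L18.PS.coord l) x =
      Away.mk 𝒢 (Groth.L18.PS.X_mem n l) c x hx := by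
  have hx' : x.IsHomogeneous c := by
    have := (mem_homogeneousSubmodule _ _).mp hx
    simpa using this
  apply HomogeneousLocalization.val_injective
  rw [Away.val_mk, ← HomogeneousLocalization.algebraMap_apply, map_eval₂Hom]
  set M := Submonoid.powers (X l : MvPolynomial (Fin (n + 1)) R) with hM
  have hmem : (X l : MvPolynomial (Fin (n + 1)) R) ∈ M := ⟨1, pow_one _⟩
  set g := (algebraMap (HomogeneousLocalization 𝒢 M) (Localization M)).comp
    (Groth.L18.PS.chartScalar n R l)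
  set t : Localization M := Localization.mk 1 ⟨X l, hmem⟩ with ht
  have hcoord : (fun j => algebraMap (HomogeneousLocalization 𝒢 M) (Localization M)
      (Groth.L18.PS.coord l j)) = fun j => t * algebraMap (MvPolynomial (Fin (n + 1)) R) (Localization M) (X j) := by
    funext j
    rw [HomogeneousLocalization.algebraMap_apply, Groth.L18.PS.coord, Away.val_mk, ht,
      ← Localization.mk_one_eq_algebraMap, Localization.mk_mul]
    congr 1
    · rw [one_mul]
    · exact Subtype.ext (by simp)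
  have hg : g = (algebraMap (MvPolynomial (Fin (n + 1)) R) (Localization M)).comp C := by
    refine RingHom.ext fun r => ?_
    simp only [g, RingHom.comp_apply, HomogeneousLocalization.algebraMap_apply]
    exact Localization.mk_one_eq_algebraMap _
  have halg : eval₂Hom g (fun j => algebraMap (MvPolynomial (Fin (n + 1)) R) (Localization M) (X j)) x =
      algebraMap (MvPolynomial (Fin (n + 1)) R) (Localization M) x := by
    rw [hg]
    exact congrArg (fun φ : MvPolynomial (Fin (n + 1)) R →+* Localization M => φ x)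
      (MvPolynomial.ringHom_ext (f := eval₂Hom _ _)
        (g := algebraMap (MvPolynomial (Fin (n + 1)) R) (Localization M)) (by simp) (by simp))
  rw [hcoord, Groth.L18.PS.eval_smul g _ t hx', halg, ht, Localization.mk_pow, one_pow,
    ← Localization.mk_one_eq_algebraMap, Localization.mk_mul]
  congr 1
  · rw [one_mul]
  · exact Subtype.ext (by simp)

/-- Evaluation of polynomials on the chart `D₊(X_l)`. -/
def toChart (l : Fin (n + 1)) : MvPolynomial (Fin (n + 1)) R →+* Γ(Groth.L18.PUP.P n R, Groth.L18.PUP.D l) :=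
  (Proj.awayToSection 𝒢 (X l)).hom.comp (eval₂Hom (Groth.L18.PS.chartScalar n R l) (Groth.L18.PS.coord l))

theorem toChart_surjective (l : Fin (n + 1)) : Function.Surjective (toChart (R := R) l) := by
  haveI : IsIso (Proj.awayToSection 𝒢 (X l : MvPolynomial (Fin (n + 1)) R)) :=
    (Proj.basicOpenIsoAway 𝒢 _ (Groth.L18.PS.X_mem n l) one_pos).isIso_hom
  intro y
  obtain ⟨z, rfl⟩ := (ConcreteCategory.bijective_of_isIso (Proj.awayToSection 𝒢 (X l))).2 y
  obtain ⟨p, rfl⟩ := Groth.L18.PS.exists_eq_eval_coord l z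
  exact ⟨p, rfl⟩

theorem toChart_X_self (l : Fin (n + 1)) : toChart (R := R) l (X l) = 1 := by
  rw [toChart, RingHom.comp_apply, eval₂Hom_X', Groth.L18.PS.coord_self, map_one]

/-- The power `X_l ^ c` as a form. -/
abbrev lPow (l : Fin (n + 1)) (c : ℕ) : 𝒢 c :=
  ⟨X l ^ c, by simpa using SetLike.pow_mem_graded c (Groth.L18.PS.X_mem (R := R) n l)⟩

theorem isFrame_form (U : (Groth.L18.PUP.P n R).Opens) {c : ℕ} (q : 𝒢 c)
    (hq : ∀ x : Groth.L18.PUP.P n R, x ∈ U → q.1 ∉ x.asHomogeneousIdeal) :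
    IsFrame (Twist.twist 𝒢 (c : ℤ)) U
      (rs (Twist.twist 𝒢 (c : ℤ)) le_top (Twist.globalOf 𝒢 q)) := by
  intro V h
  rw [rs_rs]
  let one' : 𝒢 0 := ⟨1, SetLike.GradedOne.one_mem⟩
  have hN : ((c : ℕ) : ℤ) = ((0 : ℕ) : ℤ) + (c : ℤ) := by simp
  have ha : ∀ x : (V : Opens (ProjectiveSpectrum.top 𝒢)), q.1 ∉ x.1.asHomogeneousIdeal :=
    fun x => hq x.1 (h x.2)
  have hb : ∀ x : (V : Opens (ProjectiveSpectrum.top 𝒢)), one'.1 ∉ x.1.asHomogeneousIdeal :=
    fun x hx => x.1.isPrime.ne_top ((Ideal.eq_top_iff_one _).mpr hx)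
  exact ⟨Groth.L16.ProjTwist.smul_gen_injective q one' hN V hb ha,
    Groth.L16.ProjTwist.smul_gen_surjective q one' hN V ha hb⟩

theorem isFrame_lPow (l : Fin (n + 1)) (c : ℕ) :
    IsFrame (Twist.twistProjSpace n R (c : ℤ)) (Groth.L18.PUP.D l)
      (rs (Twist.twistProjSpace n R (c : ℤ)) le_top (Groth.L16.ProjSpace.polyToSection n R c (lPow l c))) :=
  isFrame_form (Groth.L18.PUP.D l) (lPow l c) fun x hx hm =>
    (Proj.mem_basicOpen _ _ _).1 hx (x.isPrime.mem_of_pow_mem c hm)

/-- A form on the chart is its dehomogenisation times the frame. -/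
theorem rs_polyToSection (l : Fin (n + 1)) (c : ℕ) (p : 𝒢 c) :
    rs (Twist.twistProjSpace n R (c : ℤ)) (le_top : Groth.L18.PUP.D l ≤ ⊤)
        (Groth.L16.ProjSpace.polyToSection n R c p) =
      toChart l p.1 • rs (Twist.twistProjSpace n R (c : ℤ)) le_top
        (Groth.L16.ProjSpace.polyToSection n R c (lPow l c)) := by
  have hp : p.1 ∈ 𝒢 (c • 1) := by rw [smul_eq_mul, mul_one]; exact p.2
  rw [toChart, RingHom.comp_apply, eval_coord_eq_mk l p.1 hp]
  refine Subtype.ext (funext fun x => Subtype.ext ?_)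
  refine Eq.trans ?_ (Twist.coe_smul_val (c : ℤ) x.1 _ _).symm
  refine (Groth.L16.ProjSpace.polyToSection_apply c p ⟨x.1, trivial⟩).trans ?_
  refine Eq.trans ?_ (congrArg₂ (· * ·)
    (ProjectiveSpectrum.Proj.awayToSection_apply 𝒢 (X l) (Away.mk 𝒢 (Groth.L18.PS.X_mem n l) c p.1 hp) x).symm
    (Groth.L16.ProjSpace.polyToSection_apply c (lPow l c) ⟨x.1, trivial⟩).symm)
  rw [Away.val_mk, Localization.mk_eq_mk' (R := MvPolynomial (Fin (n + 1)) R) (M := Submonoid.powers _),
    IsLocalization.map_mk', ← Localization.mk_eq_mk',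
    Localization.mk_mul, Localization.mk_eq_mk_iff, Localization.r_iff_exists]
  refine ⟨1, ?_⟩
  simp only [OneMemClass.coe_one, one_mul, RingHom.id_apply, Submonoid.coe_mul, mul_one]
  exact mul_comm _ _

/-- Functions near a closed point agree modulo a power of its ideal with functions on a larger affine. -/
theorem exists_sub_res_mem {X : Scheme.{u}} {x : X} (hx : IsClosed ({x} : Set X)) (V W : X.affineOpens)
    (hWV : W.1 ≤ V.1) (hxW : x ∈ W.1) (d : ℕ) (a : Γ(X, W.1)) :
    ∃ a₀ : Γ(X, V.1), a - ro hWV a₀ ∈ (ptI hx).ideal W ^ d := by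
  have hxV : x ∈ V.1 := hWV hxW
  let J := (ptI hx).ideal W
  let m := (ptI hx).ideal V
  have hmJ : m.map (X.presheaf.map (homOfLE hWV).op).hom = J := (ptI hx).map_ideal hWV
  haveI := isMaximal_ptI hx W hxW
  haveI := isMaximal_ptI hx V hxV
  letI : Algebra Γ(X, V.1) (X.presheaf.stalk x) := (X.presheaf.germ V.1 x hxV).hom.toAlgebra
  letI : Algebra Γ(X, W.1) (X.presheaf.stalk x) := (X.presheaf.germ W.1 x hxW).hom.toAlgebra
  haveI := V.2.isLocalization_stalk ⟨x, hxV⟩
  haveI := W.2.isLocalization_stalk ⟨x, hxW⟩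
  obtain ⟨⟨b, g⟩, hbg⟩ := IsLocalization.surj (V.2.primeIdealOf ⟨x, hxV⟩).asIdeal.primeCompl
    (X.presheaf.germ W.1 x hxW a)
  have hres : ∀ t : Γ(X, V.1), X.presheaf.germ W.1 x hxW (ro hWV t) = X.presheaf.germ V.1 x hxV t := fun t =>
    TopCat.Presheaf.germ_res_apply X.presheaf _ _ _ _
  obtain ⟨⟨v, hv⟩, hv0⟩ := (IsLocalization.eq_iff_exists (W.2.primeIdealOf ⟨x, hxW⟩).asIdeal.primeCompl
    (X.presheaf.stalk x) (x := a * ro hWV g.1) (y := ro hWV b)).1 (by
      show X.presheaf.germ W.1 x hxW (a * ro hWV g.1) = X.presheaf.germ W.1 x hxW (ro hWV b)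
      rw [map_mul, hres, hres]
      exact hbg)
  have hg : g.1 ∉ m := by
    intro h
    exact g.2 ((ideal_ptI hx V hxV).le h)
  have hv' : v ∉ J := by
    intro h
    exact hv ((ideal_ptI hx W hxW).le h)
  have hinv : ∀ {A : Type u} [CommRing A] (M : Ideal A), M.IsMaximal → ∀ t ∉ M, ∃ h, 1 - t * h ∈ M ^ d := by
    intro A _ M hM t ht
    have h0 : Ideal.span {t} ⊔ M = ⊤ := hM.1.2 _
      (lt_of_le_of_ne le_sup_right fun e => ht (e ▸ Ideal.mem_sup_left (Ideal.mem_span_singleton_self t)))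
    have h1 : Ideal.span {t} ⊔ M ^ d = ⊤ := Ideal.sup_pow_eq_top h0
    obtain ⟨y, hy, z, hz, hyz⟩ := Submodule.mem_sup.1 ((Ideal.eq_top_iff_one _).1 h1)
    obtain ⟨h, rfl⟩ := Ideal.mem_span_singleton'.1 hy
    exact ⟨h, by rw [← hyz, mul_comm t h, add_sub_cancel_left]; exact hz⟩
  obtain ⟨hh, hhg⟩ := hinv m inferInstance g.1 hg
  obtain ⟨w, hw⟩ := hinv J inferInstance v hv'
  refine ⟨b * hh, ?_⟩
  have h1 : 1 - ro hWV g.1 * ro hWV hh ∈ J ^ d := by
    have h := Ideal.mem_map_of_mem (X.presheaf.map (homOfLE hWV).op).hom hhg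
    rw [Ideal.map_pow, hmJ, map_sub, map_one, map_mul] at h
    exact h
  have h2 : v * (a * ro hWV g.1 - ro hWV b) = 0 := by
    have := hv0
    rw [mul_sub]
    exact sub_eq_zero.2 this
  have h3 : a - ro hWV (b * hh) =
      a * (1 - ro hWV g.1 * ro hWV hh) + ro hWV hh * ((a * ro hWV g.1 - ro hWV b) * (1 - v * w)) := by
    rw [show ro hWV (b * hh) = ro hWV b * ro hWV hh from map_mul _ _ _]
    linear_combination (ro hWV hh * w) * h2
  rw [h3]
  exact add_mem (Ideal.mul_mem_left _ _ h1) (Ideal.mul_mem_left _ _ (Ideal.mul_mem_left _ _ hw))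

variable {k : Type u} [Field k] [IsAlgClosed k]

/-- Forms of degree `c ≥ d - 1` fill the jets of order `d` at a closed point. -/
theorem exists_form_sub_mem {x : CohB1.ProjSpace n k} (hx : IsClosed ({x} : Set (CohB1.ProjSpace n k)))
    (l : Fin (n + 1)) (W : (CohB1.ProjSpace n k).affineOpens) (hW : W.1 ≤ Groth.L18.PUP.D l) (hxW : x ∈ W.1)
    {c d : ℕ} (hd : d ≤ c + 1) (a : Γ(CohB1.ProjSpace n k, W.1)) :
    ∃ p : CohB1.polyGrading n k c, a - ro hW (toChart l p.1) ∈ (ptI hx).ideal W ^ d := by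
  let V : (CohB1.ProjSpace n k).affineOpens :=
    ⟨Groth.L18.PUP.D l, Proj.isAffineOpen_basicOpen _ _ (Groth.L18.PS.X_mem n l) one_pos⟩
  let ψ : MvPolynomial (Fin (n + 1)) k →+* Γ(CohB1.ProjSpace n k, W.1) :=
    ((CohB1.ProjSpace n k).presheaf.map (homOfLE hW).op).hom.comp (toChart l)
  let J := (ptI hx).ideal W
  haveI := isMaximal_ptI hx V (hW hxW)
  haveI hM : (((ptI hx).ideal V).comap (toChart (R := k) l)).IsMaximal :=
    Ideal.comap_isMaximal_of_surjective _ (toChart_surjective l)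
  obtain ⟨pt, hpt⟩ := MvPolynomial.isMaximal_iff_eq_vanishingIdeal_singleton.1 hM
  have hy : ∀ j, ψ (X j - C (pt j)) ∈ J := fun j => by
    have h0 : X j - C (pt j) ∈ ((ptI hx).ideal V).comap (toChart (R := k) l) := by
      rw [hpt, MvPolynomial.mem_vanishingIdeal_singleton_iff]
      simp
    show _ ∈ (ptI hx).ideal W
    rw [← (ptI hx).map_ideal (U := W) (V := V) hW]
    exact Ideal.mem_map_of_mem _ h0
  have hl : ψ (X l) = 1 := by
    show ((CohB1.ProjSpace n k).presheaf.map (homOfLE hW).op).hom (toChart l (X l)) = 1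
    rw [toChart_X_self]
    exact map_one _
  have hCmem : ∀ (r : k) (c : ℕ), C r * X l ^ c ∈ CohB1.polyGrading n k c := fun r c =>
    (MvPolynomial.isHomogeneous_X_pow (R := k) l c).C_mul r
  have key : ∀ (Q : MvPolynomial (Fin (n + 1)) k) (c d : ℕ), d ≤ c + 1 →
      ∃ p : CohB1.polyGrading n k c, ψ Q - ψ p.1 ∈ J ^ d := by
    intro Q
    induction Q using MvPolynomial.induction_on with
    | C r =>
      intro c d _
      refine ⟨⟨_, hCmem r c⟩, ?_⟩
      rw [map_mul, map_pow, hl, one_pow, mul_one, sub_self]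
      exact zero_mem _
    | add P Q hP hQ =>
      intro c d h
      obtain ⟨p, hp⟩ := hP c d h
      obtain ⟨q, hq⟩ := hQ c d h
      refine ⟨p + q, ?_⟩
      rw [Submodule.coe_add, map_add, map_add, add_sub_add_comm]
      exact add_mem hp hq
    | mul_X Q j hQ =>
      intro c d h
      obtain ⟨p₀, hp₀⟩ := hQ c d h
      let r := C (pt j) * p₀.1
      have hr : r ∈ CohB1.polyGrading n k c := MvPolynomial.IsHomogeneous.C_mul p₀.2 _
      rcases c with _ | c
      · refine ⟨⟨r, hr⟩, ?_⟩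
        have h1 : ψ Q * ψ (X j - C (pt j)) ∈ J ^ d :=
          Ideal.pow_le_pow_right (show d ≤ 1 by omega) (by rw [pow_one]; exact Ideal.mul_mem_left _ _ (hy j))
        have h2 : ψ (Q * X j) - ψ r = ψ Q * ψ (X j - C (pt j)) + ψ (C (pt j)) * (ψ Q - ψ p₀.1) := by
          simp only [r, map_mul, map_sub]; ring
        rw [h2]
        exact add_mem h1 (Ideal.mul_mem_left _ _ hp₀)
      · obtain ⟨p₁, hp₁⟩ := hQ c (d - 1) (by omega)
        let s := p₁.1 * (X j - C (pt j) * X l) + r
        have hs : s ∈ CohB1.polyGrading n k (c + 1) :=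
          add_mem (MvPolynomial.IsHomogeneous.mul p₁.2 ((MvPolynomial.isHomogeneous_X k j).sub
            ((MvPolynomial.isHomogeneous_X k l).C_mul _))) hr
        refine ⟨⟨s, hs⟩, ?_⟩
        have h2 : ψ (Q * X j) - ψ s =
            (ψ Q - ψ p₁.1) * ψ (X j - C (pt j)) + ψ (C (pt j)) * (ψ Q - ψ p₀.1) := by
          simp only [s, r, map_mul, map_sub, map_add, hl]; ring
        rw [h2]
        refine add_mem ?_ (Ideal.mul_mem_left _ _ hp₀)
        rcases d with _ | d
        · simp
        · rw [pow_succ]; exact Ideal.mul_mem_mul (by simpa using hp₁) (hy j)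
  obtain ⟨a₀, ha₀⟩ := exists_sub_res_mem hx V W hW hxW d a
  obtain ⟨Q, rfl⟩ := toChart_surjective (R := k) l a₀
  obtain ⟨p, hp⟩ := key Q c d hd
  refine ⟨p, ?_⟩
  have := add_mem ha₀ hp
  rwa [show ψ Q = ro hW (toChart l Q) from rfl, sub_add_sub_cancel] at this

end Groth.L03.BlowAcyc
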