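import Groth.Agent.L03.BlowAcyc.PnPoints
import Groth.Agent.L03.BlowAcyc.JetsAlg
import Groth.Agent.L17.ThickBasic
import Groth.Agent.L18.CounitGen

/-!
# First cohomology on projective space blown up in a point
-/

set_option autoImplicit false
set_option linter.style.haveILetI false
set_option backward.isDefEq.respectTransparency false

universe u

open CategoryTheory CategoryTheory.Limits AlgebraicGeometry TopologicalSpace Opposite
open Groth.L11.BlowSmooth (sI)
open Groth.L13.PointBlow (pre preι opensRange_preι)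
open Groth.L03.BlowPt (ptI)
open Groth.L18.Frame (rs rs_rs ro IsFrame)
open Groth.L00.Tensor (tensorIso tensorComm tensorUnitLeft tensorUnitRight)

noncomputable section

namespace Groth.L03.BlowAcyc

variable {k : Type u} [Field k] [IsAlgClosed k] {m : ℕ}

/-- `H¹(X, π^*O(c) ⊗ I_E^d) = 0` for `d ≤ c + 1`. -/
theorem subsingleton_H1_point (hm : 1 ≤ m) {p : ↥(CohB1.ProjSpace (m + 1) k)}
    (hp : IsClosed ({p} : Set ↥(CohB1.ProjSpace (m + 1) k))) {X : Scheme.{u}}
    {π : X ⟶ CohB1.ProjSpace (m + 1) k} (hπ : BlowUp.IsBlowUp π (ptI hp)) (c d : ℕ) (hd : d ≤ c + 1) :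
    Subsingleton (Coh.HH X (CohB1.tensorMod ((Scheme.Modules.pullback π).obj (Twist.twistProjSpace (m + 1) k c))
      (CohB1.tensorPow (ClSub.idealMod (BlowUp.exceptional π (ptI hp))) d)) 1) := by
  let Y := CohB1.ProjSpace (m + 1) k
  haveI : IsLocallyNoetherian Y := LocallyOfFiniteType.isLocallyNoetherian (CohB1.ProjSpace.toSpec (m + 1) k)
  haveI : IsIntegral Y := Groth.L16.ProjSpace.isIntegral (n := m + 1) (R := k)
  haveI := isProper hπ
  obtain ⟨l, hl⟩ := Groth.L16.ProjSpace.exists_mem_basicOpen_X (m + 1) k p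
  obtain ⟨W, f, hpW, hWl, hf, hI, -, -⟩ := exists_point_chart hp (Set.finite_singleton p)
    (fun y hy => by rw [Set.mem_singleton_iff] at hy; subst hy; exact hp) rfl (m + 1)
    (Groth.L22.PDual.regular_stalk p) (Groth.L22.PDual.dim_stalk hp) (R₀ := Groth.L18.PUP.D l) hl
  have hsupp : ∀ y : Y, y ∈ (ptI hp).support → y = p := fun y hy => by
    have h : y ∈ ((ptI hp).support : Set Y) := hy
    simpa [ptI] using h
  have hqr : LocQR (ptI hp) m := fun y hy => ⟨W, m, f, hsupp y hy ▸ hpW, le_rfl, hI, hf⟩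
  have hdense : Dense (((ptI hp).support : Set Y)ᶜ) :=
    Dense.mono (Set.singleton_subset_iff.2 fun h => ne_genericPoint hp (hsupp _ h))
      (dense_iff_closure_eq.2 (genericPoint_spec Y))
  let O := Twist.twistProjSpace (m + 1) k (c : ℤ)
  have hO : PicF.IsInvertible O := Groth.L16.ProjTwist.isInvertible_twistProjSpace (m + 1) k c
  have hOf := Groth.L16.Existence.isFinLocFree_of_isInvertible hO
  have hn : Pi1.IsNormalScheme Y := fun y => by
    haveI : IsRegularLocalRing (Y.presheaf.stalk y) := Groth.L22.PDual.regular_stalk y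
    haveI := Groth.L01.isDomain_of_regular (Y.presheaf.stalk y)
    exact ⟨inferInstance, Groth.L03.RegularNormal.isIntegrallyClosed _⟩
  haveI := isIso_unit hπ hn hdense hOf
  let η := (Scheme.Modules.pullbackPushforwardAdjunction π).unit.app O
  let N := (Scheme.Modules.pullback π).obj O
  have hNi : PicF.IsInvertible N := Groth.L18.Ample.isInvertible_pullback π hO
  let E := BlowUp.exceptional π (ptI hp)
  have hEi : PicF.IsInvertible (ClSub.idealMod E) :=
    (Groth.Agent.L19.IdealInvertible.isEffCartier_iff _).2 hπ.1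
  obtain ⟨-, ⟨ed⟩⟩ := Groth.L13.PointBlow.nonempty_idealMod_pow hEi d
  obtain ⟨S, hS, e₁, e₂, -, ⟨e₃⟩⟩ := Groth.L13.PairBlow.exists_seq (E ^ d)
    (Groth.L16.Existence.isFinLocFree_of_isInvertible hNi)
  refine Groth.L14.LocHilbLift.subsingleton_HH_of_iso (e₁ ≪≫ tensorIso ed (Iso.refl _) ≪≫ tensorComm _ _) 1 ?_
  obtain ⟨a⟩ := nonempty_HH_push_of_isZero π N (fun q => isZero_RpushAb_pullback hπ hqr hOf (q + 1) q.succ_pos) 1
  haveI := Groth.L14.LocHilbLift.subsingleton_HH_of_iso e₂.symm 1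
    (@Equiv.subsingleton _ _ a.toEquiv (Groth.L14.LocHilbLift.subsingleton_HH_of_iso (asIso η) 1
      (Groth.L16.ProjSpace.subsingleton_HH_twist (m + 1) k (c : ℤ) 1 (by omega) (by omega))))
  -- global sections of the quotient come from forms
  suffices hsurj : Function.Surjective (S.g.app ⊤) by
    refine subsingleton_of_forall_eq 0 fun z => ?_
    obtain ⟨q, rfl⟩ := (Groth.L16.CohLinear.exact_delta_hmap hS 0 z).1 (Subsingleton.elim _ _)
    obtain ⟨t, ht⟩ := hsurj (Groth.L16.HomSh.h0Equiv S.X₃ q)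
    have hq : Groth.L16.CohLinear.hmap S.g 0 ((Groth.L16.HomSh.h0Equiv S.X₂).symm t) = q := by
      apply (Groth.L16.HomSh.h0Equiv S.X₃).injective
      refine (Groth.L16.HomSh.h0Equiv_map S.g _).trans ?_
      rw [AddEquiv.apply_symm_apply]
      exact ht
    exact ((Groth.L16.CohLinear.exact_hmap_delta hS 0 q).2 ⟨_, hq⟩)
  intro q
  let j := preι π W
  let U' : X.Opens := π ⁻¹ᵁ W.1
  have hU' : j ''ᵁ ⊤ = U' := by rw [Scheme.Hom.image_top_eq_opensRange, opensRange_preι]
  -- sections over the chart lift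
  have hlift : ∀ y : Γ(S.X₃, U'), ∃ x : Γ(S.X₂, U'), S.g.app U' x = y := by
    suffices h : Function.Surjective (S.g.app (j ''ᵁ ⊤)) by
      rw [hU'] at h
      exact h
    haveI hNoeth : IsNoetherianRing Γ(CohB1.ProjSpace (m + 1) k, W.1) :=
      IsLocallyNoetherian.component_noetherian (X := CohB1.ProjSpace (m + 1) k) W
    have hS' := hS.map_of_exact (Scheme.Modules.restrictFunctor j)
    refine Groth.L16.Exist.Adic.surjective_app_top hS' ?_
    obtain ⟨g⟩ := nonempty_idealMod_pre (σ := π) (I := ptI hp) W hI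
    have hfr := ((isFrame_lPow (R := k) l c).mono hWl).pullback W.2.fromSpec O
    obtain ⟨eO⟩ := Groth.L18.PBundle.nonempty_iso_unit (hfr.mono
      (show (⊤ : (Spec _).Opens) ≤ W.2.fromSpec ⁻¹ᵁ W.1 from W.2.fromSpec_preimage_self.ge))
    refine Groth.L14.LocHilbLift.subsingleton_HH_of_iso ?_ 1
      (@subsingleton_HH_pow _ _ _ _ _ _ hNoeth (isBlowUp_pre hπ W hI) hf d 1 one_pos)
    refine ((Scheme.Modules.restrictFunctorIsoPullback j).app S.X₁ ≪≫
      (Scheme.Modules.pullback j).mapIso (e₁ ≪≫ tensorIso ed (Iso.refl N)) ≪≫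
      (Groth.L29.DC.PullTensor.pullTensor j _ _).symm ≪≫
      tensorIso (Groth.L18.Ample.pullPow j _ d ≪≫ Groth.L00.Tensor.tensorPowIso g d)
        ((Scheme.Modules.pullbackComp j π).app O ≪≫
          (Scheme.Modules.pullbackCongr pullback.condition.symm).app O ≪≫
          ((Scheme.Modules.pullbackComp (pullback.fst _ π) W.2.fromSpec).app O).symm ≪≫
          (Scheme.Modules.pullback _).mapIso eO ≪≫ Groth.L29.LocFree.pullbackUnitIso _) ≪≫
      tensorUnitRight _).symm
  obtain ⟨x, hx⟩ := hlift (rs S.X₃ (le_top : U' ≤ ⊤) q)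
  -- the lift comes from the base
  have hηW : Function.Bijective (η.app W.1) :=
    ConcreteCategory.bijective_of_isIso (η.app W.1)
  obtain ⟨a', ha'⟩ := hηW.2 (show Γ((Scheme.Modules.pushforward π).obj N, W.1) from e₂.hom.app U' x)
  obtain ⟨b, hb⟩ := ((isFrame_lPow (R := k) l c).exists_coeff hWl (show Γ(O, W.1) from a'))
  obtain ⟨P, hP⟩ := exists_form_sub_mem hp l W hWl hpW hd b
  let F : Γ(O, ⊤) := Groth.L16.ProjSpace.polyToSection (m + 1) k c P
  let t : Γ(S.X₂, ⊤) := e₂.inv.app ⊤ (show Γ(N, ⊤) from η.app ⊤ F)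
  refine ⟨t, ?_⟩
  -- the difference is killed on the chart
  let e : Γ(O, W.1) := rs O le_top (Groth.L16.ProjSpace.polyToSection (m + 1) k c (lPow l c))
  let jj : Γ(Y, W.1) := b - ro hWl (toChart l P.1)
  have hdiff : a' = jj • e + rs O le_top F := by
    have h1 : rs O (le_top : W.1 ≤ ⊤) F = ro hWl (toChart l P.1) • e := by
      have h := congrArg (rs O hWl) (rs_polyToSection l c P)
      rw [Groth.L18.Frame.rs_smul, rs_rs, rs_rs] at h
      exact h
    have hb' : b • e = a' := by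
      have h := hb
      rw [rs_rs] at h
      exact h
    rw [h1, ← hb', ← add_smul, sub_add_cancel]
  have hkill : (E ^ d).subschemeι.app U' (π.app W.1 jj) = 0 := by
    have hle : ptI hp ^ d ≤ ((E ^ d).subschemeι ≫ π).ker := by
      rw [Scheme.Hom.ker_comp, Scheme.IdealSheafData.ker_subschemeι,
        Scheme.IdealSheafData.le_map_iff_comap_le, Groth.L17.Thick.comap_pow]
    have hmem : jj ∈ (ptI hp ^ d).ideal W := by
      rw [Scheme.IdealSheafData.ideal_pow, Pi.pow_apply]
      exact hP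
    have h := hle W hmem
    rw [Scheme.Hom.ker_apply, RingHom.mem_ker] at h
    exact h
  have hzero : ∀ y : Γ(S.X₃, U'), (π.app W.1 jj) • y = 0 := fun y => by
    refine (ConcreteCategory.bijective_of_isIso (e₃.hom.app U')).1 ?_
    rw [Scheme.Modules.Hom.app_smul, map_zero]
    show (E ^ d).subschemeι.app U' (π.app W.1 jj) •
      (show Γ((Scheme.Modules.pullback (E ^ d).subschemeι).obj N, (E ^ d).subschemeι ⁻¹ᵁ U') from e₃.hom.app U' y) = 0
    rw [hkill, zero_smul]
  have hloc : rs S.X₃ (le_top : U' ≤ ⊤) (S.g.app ⊤ t) = rs S.X₃ le_top q := by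
    rw [← hx]
    have h2 : e₂.hom.app U' x = rs N (le_top : U' ≤ ⊤) (show Γ(N, ⊤) from η.app ⊤ F) +
        π.app W.1 jj • (show Γ(N, U') from η.app W.1 e) := by
      have h3 : (show Γ(N, U') from η.app W.1 a') = e₂.hom.app U' x := ha'
      rw [← h3, hdiff, map_add, Scheme.Modules.Hom.app_smul]
      exact (add_comm _ _).trans (congrArg (fun v : Γ(N, U') => v + π.app W.1 jj • (show Γ(N, U') from η.app W.1 e))
        (Groth.L18.Ample.hom_app_rs η (le_top : W.1 ≤ ⊤) F))
    have h4 : x = e₂.inv.app U' (e₂.hom.app U' x) := congr(($(e₂.hom_inv_id.symm)).app U' x)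
    rw [h4, h2, map_add, map_add, Scheme.Modules.Hom.app_smul, Scheme.Modules.Hom.app_smul, hzero, add_zero]
    rw [← Groth.L18.Ample.hom_app_rs, ← Groth.L18.Ample.hom_app_rs]
  -- sections of the quotient are determined on the chart
  have hsub : (E ^ d).subschemeι ⁻¹ᵁ U' = ⊤ := eq_top_iff.2 fun z _ => by
    show π ((E ^ d).subschemeι z) ∈ W.1
    have hz : (E ^ d).subschemeι z ∈ ((E ^ d).support : Set X) := by
      rw [← Scheme.IdealSheafData.range_subschemeι]; exact ⟨z, rfl⟩
    have hz' : π ((E ^ d).subschemeι z) ∈ ((ptI hp ^ d).support : Set Y) := by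
      have hz2 : (E ^ d).subschemeι z ∈ (((ptI hp ^ d).comap π).support : Set X) :=
        (congrArg (fun J : X.IdealSheafData => (J.support : Set X)) (Groth.L17.Thick.comap_pow π (ptI hp) d)).ge hz
      exact (Scheme.IdealSheafData.support_comap _ π).le hz2
    by_cases hd0 : d = 0
    · subst hd0
      simp at hz'
    · rw [(ptI hp).support_pow d hd0] at hz'
      exact hsupp _ hz' ▸ hpW
  refine (ConcreteCategory.bijective_of_isIso (e₃.hom.app ⊤)).1 ?_
  let G := (Scheme.Modules.pullback (E ^ d).subschemeι).obj N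
  have hrs : rs ((Scheme.Modules.pushforward (E ^ d).subschemeι).obj G) (le_top : U' ≤ ⊤)
      (e₃.hom.app ⊤ (S.g.app ⊤ t) - e₃.hom.app ⊤ q) = 0 := by
    rw [show rs ((Scheme.Modules.pushforward (E ^ d).subschemeι).obj G) (le_top : U' ≤ ⊤)
      (e₃.hom.app ⊤ (S.g.app ⊤ t) - e₃.hom.app ⊤ q) = _ from map_sub _ _ _]
    exact sub_eq_zero.2 ((Groth.L18.Ample.hom_app_rs e₃.hom (le_top : U' ≤ ⊤) _).symm.trans
      ((congrArg (e₃.hom.app U') hloc).trans (Groth.L18.Ample.hom_app_rs e₃.hom (le_top : U' ≤ ⊤) _)))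
  exact sub_eq_zero.1 (Groth.L18.Ample.eq_zero_of_rs_eq_zero G
    (show (E ^ d).subschemeι ⁻¹ᵁ U' ≤ (E ^ d).subschemeι ⁻¹ᵁ ⊤ from le_top) _ (by rw [hsub]; exact le_top) hrs)

end Groth.L03.BlowAcyc
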