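import Groth.Agent.L03.BlowAcyc.NegTwist
import Groth.Agent.L22.Reg.Mult

/-!
# Surjectivity on global sections propagates along generated twists
-/

set_option autoImplicit false
set_option linter.style.haveILetI false
set_option backward.isDefEq.respectTransparency false

universe u

open CategoryTheory CategoryTheory.Limits AlgebraicGeometry TopologicalSpace
open Groth.L03.BlowPt (ptI)
open Groth.L00.Tensor (tensorMap tensorIso tensorComm tensorAssoc tensorUnitLeft tensorUnitRight tensorRightF)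
open Groth.L16.CohLinear (hmap hmap_comp hmap_id)
open Groth.L22.Reg (Generates mu cI psi psi_natural)

noncomputable section

namespace Groth.L03.BlowAcyc

section Gen

variable {X : Scheme.{u}}

/-- The images of the multiplications generate; vanishing only along the length of the family. -/
theorem mem_of_twists' {F L : X.Modules} (hL : PicF.IsInvertible L) {σs : List (L ⟶ Coh.structureModule X)}
    (hσ : Generates σs)
    (h : ∀ j, j + 2 ≤ σs.length → Subsingleton (Coh.HH X (CohB1.tensorMod F (CohB1.tensorPow L (j + 2))) (j + 1)))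
    (S : AddSubgroup (Coh.HH X F 0)) (hS : ∀ σ ∈ σs, ∀ z, hmap (mu σ F) 0 z ∈ S) (y : Coh.HH X F 0) : y ∈ S := by
  have hk := Groth.L22.Reg.kos_obj (F := F) (σs := σs)
    (PP := fun j M => 1 ≤ j → j < σs.length → Subsingleton (Coh.HH X M j))
    (fun _ _ hM _ _ => Groth.L03.Euler.subsingleton_HH_of_isZero hM _)
    (fun _ _ _ hA hB hj hj' => Groth.L22.Reg.subsingleton_biprod _ (hA hj hj') (hB hj hj'))
    (fun _ _ _ e hA hj hj' => Groth.L22.Reg.subsingleton_iso e _ (hA hj hj')) (fun j hj hj' => by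
      obtain ⟨i, rfl⟩ : ∃ i, j = i + 1 := ⟨j - 1, by omega⟩
      exact h i (by omega))
  obtain ⟨a, rfl⟩ := Groth.L22.Reg.surjective_aug (fun x => Groth.L22.Reg.kos_exactAtPt x hL (hσ x))
    (Groth.L22.Reg.kos_isZero σs) (q := 0) (fun j => by
      rw [Nat.zero_add]
      rcases lt_or_ge (j + 1) σs.length with hj | hj
      · exact hk (j + 1) (by omega) hj
      · exact Groth.L03.Euler.subsingleton_HH_of_isZero (Groth.L22.Reg.kos_isZero σs (j + 1) hj) _) y
  exact Groth.L22.Reg.aug_mem 0 S σs hS a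

/-- Surjectivity on global sections after a twist. -/
abbrev Surj {Q P : X.Modules} (g : Q ⟶ P) (T : X.Modules) : Prop :=
  Function.Surjective (hmap ((tensorRightF T).map g) 0)

/-- Surjectivity on global sections passes to a generated twist. -/
theorem surjective_hmap_tensor {N L : X.Modules} (hL : PicF.IsInvertible L)
    {σs : List (L ⟶ Coh.structureModule X)} (hσ : Generates σs)
    (e : CohB1.tensorMod N L ≅ Coh.structureModule X) {Q P : X.Modules} (g : Q ⟶ P)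
    (hg : Function.Surjective (hmap g 0))
    (h : ∀ j, j + 2 ≤ σs.length →
      Subsingleton (Coh.HH X (CohB1.tensorMod (CohB1.tensorMod P N) (CohB1.tensorPow L (j + 2))) (j + 1))) :
    Surj g N := by
  intro y
  refine mem_of_twists' hL hσ h (hmap ((tensorRightF N).map g) 0).toAddMonoidHom.range (fun σ _ z => ?_) y
  obtain ⟨w, hw⟩ := hg (hmap (cI e P).hom 0 z)
  refine ⟨hmap (psi e σ Q) 0 w, ?_⟩
  have hf : mu σ (CohB1.tensorMod P N) = (cI e P).hom ≫ psi e σ P := by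
    rw [psi, Iso.hom_inv_id_assoc]
  show hmap (tensorMap g (𝟙 N)) 0 (hmap (psi e σ Q) 0 w) = hmap (mu σ (CohB1.tensorMod P N)) 0 z
  rw [← hmap_comp, ← psi_natural, hmap_comp, hw, ← hmap_comp, ← hf]

theorem surjective_of_comm {A B A' B' : X.Modules} {f : A ⟶ B} {f' : A' ⟶ B'} (a : A ⟶ A') (b : B ≅ B')
    (hc : a ≫ f' = f ≫ b.hom) (hf : Function.Surjective (hmap f 0)) : Function.Surjective (hmap f' 0) := by
  intro y
  obtain ⟨x, hx⟩ := hf (hmap b.inv 0 y)
  refine ⟨hmap a 0 x, ?_⟩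
  rw [← hmap_comp, hc, hmap_comp, hx, ← hmap_comp, b.inv_hom_id, hmap_id]

theorem surj_iso {Q P : X.Modules} (g : Q ⟶ P) {T T' : X.Modules} (e : T ≅ T') (h : Surj g T) : Surj g T' :=
  surjective_of_comm (tensorMap (𝟙 Q) e.hom) (tensorIso (Iso.refl P) e) (by
    show tensorMap (𝟙 Q) e.hom ≫ tensorMap g (𝟙 T') = tensorMap g (𝟙 T) ≫ tensorMap (𝟙 P) e.hom
    rw [← Groth.L00.Tensor.tensorMap_comp, ← Groth.L00.Tensor.tensorMap_comp, Category.id_comp, Category.id_comp,
      Category.comp_id, Category.comp_id]) h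

theorem surj_assoc {Q P : X.Modules} (g : Q ⟶ P) {A B : X.Modules}
    (h : Surj ((tensorRightF A).map g) B) : Surj g (CohB1.tensorMod A B) :=
  surjective_of_comm (tensorAssoc Q A B).hom (tensorAssoc P A B) (by
    show (tensorAssoc Q A B).hom ≫ tensorMap g (𝟙 (CohB1.tensorMod A B)) =
      tensorMap (tensorMap g (𝟙 A)) (𝟙 B) ≫ (tensorAssoc P A B).hom
    rw [Groth.L29.DC.Assoc.assoc_natural g (𝟙 A) (𝟙 B), Groth.L00.Tensor.tensorMap_id]) h

theorem surj_unit {Q P : X.Modules} (g : Q ⟶ P) (h : Function.Surjective (hmap g 0)) :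
    Surj g (Coh.structureModule X) :=
  surjective_of_comm (tensorUnitRight Q).inv (tensorUnitRight P).symm (by
    show (tensorUnitRight Q).inv ≫ tensorMap g (𝟙 (Coh.structureModule X)) = g ≫ (tensorUnitRight P).inv
    rw [← cancel_mono (tensorUnitRight P).hom, Category.assoc, Groth.L22.Reg.tensorUnitRight_natural,
      Iso.inv_hom_id_assoc, Category.assoc, Iso.inv_hom_id, Category.comp_id]) h

end Gen

section Points

variable {k : Type u} [Field k] [IsAlgClosed k] {m : ℕ} {s : ℕ} {Pt : Fin s → ↥(CohB1.ProjSpace (m + 1) k)}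
  (hP : Function.Injective Pt) (hPc : ∀ t, IsClosed ({Pt t} : Set ↥(CohB1.ProjSpace (m + 1) k)))
  (hZ : IsClosed (Set.range Pt)) {X : Scheme.{u}} {π : X ⟶ CohB1.ProjSpace (m + 1) k}
  (hπ : BlowUp.IsBlowUp π (Scheme.IdealSheafData.vanishingIdeal ⟨Set.range Pt, hZ⟩))

omit [IsAlgClosed k] in
theorem subsingleton_sum_tensor {π : X ⟶ CohB1.ProjSpace (m + 1) k} {a : ℕ} {P A : X.Modules} {c : ℤ}
    (eP : P ≅ ∐ fun _ : Fin a => pO π c) (i : ℕ)
    (h : Subsingleton (Coh.HH X (CohB1.tensorMod (pO π c) A) i)) :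
    Subsingleton (Coh.HH X (CohB1.tensorMod P A) i) :=
  Groth.L14.LocHilbLift.subsingleton_HH_of_iso (tensorIso eP.symm (Iso.refl A)) i
    (subsingleton_HH_sigma_tensor a i h)

include hP hPc hπ in
/-- Growth along `π^*O(1)`. -/
theorem surj_hyperplane {a : ℕ} {Q P : X.Modules} (eP : P ≅ ∐ fun _ : Fin a => pO π 2) (g : Q ⟶ P)
    (hg : Function.Surjective (hmap g 0)) : ∀ e : ℕ, Surj g (pO π (e : ℤ))
  | 0 => by
    obtain ⟨z⟩ := Groth.L22.Reg.nonempty_O_zero (m + 1) k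
    exact surj_iso g ((Scheme.Modules.pullback π).mapIso z ≪≫ Groth.L29.LocFree.pullbackUnitIso _).symm
      (surj_unit g hg)
  | e + 1 => by
    obtain ⟨e1⟩ := nonempty_pO_inv π 1
    obtain ⟨e2⟩ := nonempty_pO_add π (e : ℤ) 1
    refine surj_iso g (e2 ≪≫ eqToIso (by push_cast; rfl)) (surj_assoc g ?_)
    refine surjective_hmap_tensor (Groth.L18.Ample.isInvertible_pullback π
        (Groth.L16.ProjTwist.isInvertible_twistProjSpace (m + 1) k (-1)))
      (Groth.L03.ShStab.QuadricCoh.generates_pullback π Groth.L22.Reg.generates_sigmas) e1 _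
      (surj_hyperplane eP g hg e) fun j hj => ?_
    have hj' : j + 1 ≤ m + 1 := by simp [Groth.L22.Reg.sigmas] at hj; omega
    obtain ⟨e3⟩ := Groth.L22.Reg.nonempty_O_pow (n := m + 1) (R := k) (j + 2)
    let A := CohB1.tensorMod (CohB1.tensorMod (pO π (e : ℤ)) (pO π 1)) (pO π (-((j + 2 : ℕ) : ℤ)))
    refine Groth.L14.LocHilbLift.subsingleton_HH_of_iso ((tensorIso
      (tensorAssoc P _ _) ((Groth.L18.Ample.pullPow π _ (j + 2)).symm ≪≫ (Scheme.Modules.pullback π).mapIso e3) ≪≫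
        tensorAssoc P _ _).symm) _ (subsingleton_sum_tensor eP (A := A) (j + 1) ?_)
    obtain ⟨e4⟩ := nonempty_pO_add π ((e : ℤ) + 1) (-((j + 2 : ℕ) : ℤ))
    obtain ⟨e5⟩ := nonempty_pO_add π 2 ((e : ℤ) + 1 + -((j + 2 : ℕ) : ℤ))
    exact Groth.L14.LocHilbLift.subsingleton_HH_of_iso
      ((tensorIso (Iso.refl _) (tensorIso e2 (Iso.refl _) ≪≫ e4) ≪≫ e5).symm) _
      (subsingleton_HH_pO hP hPc hZ hπ _ _ (by omega) (by omega))

end Points

section OnePt

variable {k : Type u} [Field k] [IsAlgClosed k] {m : ℕ} {Pt : Fin 1 → ↥(CohB1.ProjSpace (m + 1) k)}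
  (hPc : ∀ t, IsClosed ({Pt t} : Set ↥(CohB1.ProjSpace (m + 1) k)))
  (hZ : IsClosed (Set.range Pt)) {X : Scheme.{u}} {π : X ⟶ CohB1.ProjSpace (m + 1) k}
  (hπ : BlowUp.IsBlowUp π (Scheme.IdealSheafData.vanishingIdeal ⟨Set.range Pt, hZ⟩)) {J' : X.Modules}
  (hJ : ClSub.IsInverseOf J' (ClSub.idealMod (BlowUp.exceptional π
    (Scheme.IdealSheafData.vanishingIdeal ⟨Set.range Pt, hZ⟩))))

include hPc hπ hJ in
/-- Growth along `π^*O(1) ⊗ I_E`. -/
theorem surj_through_point (hm : 1 ≤ m) {a : ℕ} {Q P : X.Modules} (eP : P ≅ ∐ fun _ : Fin a => pO π 2)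
    (g : Q ⟶ P) (u : ℕ) (hu : Surj g (pO π (u : ℤ))) : ∀ d : ℕ, Surj g (CohB1.tensorMod (pO π ((u + d : ℕ) : ℤ))
      (CohB1.tensorPow (ClSub.idealMod (BlowUp.exceptional π
        (Scheme.IdealSheafData.vanishingIdeal ⟨Set.range Pt, hZ⟩))) d))
  | 0 => surj_iso g (tensorUnitRight _).symm hu
  | d + 1 => by
    have hP : Function.Injective Pt := fun a b _ => Subsingleton.elim a b
    let I := ClSub.idealMod (BlowUp.exceptional π (Scheme.IdealSheafData.vanishingIdeal ⟨Set.range Pt, hZ⟩))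
    have hset : (⟨Set.range Pt, hZ⟩ : Closeds ↥(CohB1.ProjSpace (m + 1) k)) = ⟨{Pt 0}, hPc 0⟩ :=
      Closeds.ext (by ext y; simp [Fin.exists_fin_one, eq_comm])
    have hπ' : BlowUp.IsBlowUp π (ptI (hPc 0)) := by rw [hset] at hπ; exact hπ
    have hJp : ClSub.IsInverseOf J' (ClSub.idealMod (BlowUp.exceptional π (ptI (hPc 0)))) := by
      rw [hset] at hJ; exact hJ
    obtain ⟨σs, hlen, hσ⟩ := exists_generators (hPc 0) hm hπ' hJp
    obtain ⟨cJ⟩ := hJ
    have hJi : PicF.IsInvertible J' := Groth.L13.PointBlow.isInvertible_of_isInverseOf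
      ((Groth.Agent.L19.IdealInvertible.isEffCartier_iff _).2 hπ.1) ⟨cJ⟩
    obtain ⟨e1⟩ := nonempty_pO_inv π 1
    let N := CohB1.tensorMod (pO π 1) I
    let L := CohB1.tensorMod (pO π (-1)) J'
    let e : CohB1.tensorMod N L ≅ Coh.structureModule X :=
      Groth.L00.Tensor.tensorMiddleFour _ _ _ _ ≪≫ tensorIso e1 (tensorComm _ _ ≪≫ cJ) ≪≫ tensorUnitLeft _
    obtain ⟨e2⟩ := nonempty_pO_add π ((u + d : ℕ) : ℤ) 1
    let T := CohB1.tensorMod (pO π ((u + d + 1 : ℕ) : ℤ)) (CohB1.tensorPow I (d + 1))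
    let eT : CohB1.tensorMod (CohB1.tensorMod (pO π ((u + d : ℕ) : ℤ)) (CohB1.tensorPow I d)) N ≅ T :=
      Groth.L00.Tensor.tensorMiddleFour _ _ _ _ ≪≫ tensorIso (e2 ≪≫ eqToIso (by push_cast; rfl)) (Iso.refl _)
    refine surj_iso g (eT ≪≫ eqToIso rfl) (surj_assoc g ?_)
    refine surjective_hmap_tensor (Groth.L18.GenLoc.isInvertible_tensor (Groth.L18.Ample.isInvertible_pullback π
        (Groth.L16.ProjTwist.isInvertible_twistProjSpace (m + 1) k (-1))) hJi) hσ e _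
      (surj_through_point hm eP g u hu d) fun j hj => ?_
    have hj' : j + 2 ≤ m + 1 := hj.trans hlen
    obtain ⟨eL⟩ := nonempty_pow_twist π (-1) J' 1 (j + 2)
    let c : ℤ := 2 + (((u + d + 1 : ℕ) : ℤ) + ((j + 2 : ℕ) : ℤ) * -1)
    obtain ⟨e3⟩ := nonempty_pO_add π ((u + d + 1 : ℕ) : ℤ) (((j + 2 : ℕ) : ℤ) * -1)
    obtain ⟨e4⟩ := nonempty_pO_add π 2 (((u + d + 1 : ℕ) : ℤ) + ((j + 2 : ℕ) : ℤ) * -1)
    let B := CohB1.tensorMod (CohB1.tensorPow I (d + 1)) (CohB1.tensorPow J' (j + 2))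
    let eA : CohB1.tensorMod T (CohB1.tensorPow L (j + 2)) ≅
        CohB1.tensorMod (pO π (((u + d + 1 : ℕ) : ℤ) + ((j + 2 : ℕ) : ℤ) * -1)) B :=
      tensorIso (Iso.refl T) (Groth.L00.Tensor.tensorPowIso
        (tensorIso (Iso.refl _) (Groth.L00.Tensor.tensorPowOne J').symm) (j + 2) ≪≫ eL ≪≫
        tensorIso (Iso.refl _) (eqToIso (by rw [one_mul]))) ≪≫
      Groth.L00.Tensor.tensorMiddleFour _ _ _ _ ≪≫ tensorIso e3 (Iso.refl _)
    refine Groth.L14.LocHilbLift.subsingleton_HH_of_iso (tensorIso (tensorAssoc P _ _ ≪≫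
      tensorIso (Iso.refl P) eT) (Iso.refl _) ≪≫ tensorAssoc P _ _).symm _
      (subsingleton_sum_tensor eP (j + 1) (Groth.L14.LocHilbLift.subsingleton_HH_of_iso
        (tensorIso (Iso.refl _) eA ≪≫ (tensorAssoc _ _ _).symm ≪≫ tensorIso e4 (Iso.refl B)).symm _ ?_))
    have hJ' : ClSub.IsInverseOf I J' := ⟨tensorComm _ _ ≪≫ cJ⟩
    rcases le_or_gt (j + 2) (d + 1) with hle | hgt
    · obtain ⟨r, hr⟩ : ∃ r, d + 1 = r + (j + 2) := ⟨d + 1 - (j + 2), by omega⟩
      obtain ⟨q⟩ := nonempty_pow_tensor_inverse (A := CohB1.tensorPow I r) hJ' (j + 2)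
      refine Groth.L14.LocHilbLift.subsingleton_HH_of_iso ?_ _
        (subsingleton_HH_twist_point hP hPc hZ hπ hm (le_refl 1) c r (j + 1) (by omega) (by omega)
          (fun _ => Or.inr (by simp only [c]; push_cast; omega)) (fun _ => by simp only [c]; push_cast; omega))
      exact tensorIso (Iso.refl _) (q.symm ≪≫ tensorIso (Groth.L00.Tensor.tensorPowAdd I r (j + 2) ≪≫
        eqToIso (by rw [hr])) (Iso.refl _))
    · obtain ⟨r, hr⟩ : ∃ r, j + 2 = r + (d + 1) := ⟨j + 2 - (d + 1), by omega⟩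
      obtain ⟨q⟩ := nonempty_pow_tensor_inverse (A := CohB1.tensorPow J' r) (M := I)
        (J' := J') ⟨cJ⟩ (d + 1)
      refine Groth.L14.LocHilbLift.subsingleton_HH_of_iso ?_ _
        (subsingleton_HH_base (hPc 0) hπ' hJp c (j + 1) r (by omega)
          (Groth.L16.ProjSpace.subsingleton_HH_twist (m + 1) k c (j + 1) (by omega) (by omega)))
      exact tensorIso (Iso.refl _) (q.symm ≪≫
        tensorIso (Groth.L00.Tensor.tensorPowAdd J' r (d + 1) ≪≫ eqToIso (by rw [hr])) (Iso.refl _) ≪≫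
        tensorComm _ _)

end OnePt

end Groth.L03.BlowAcyc
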