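import Groth.Agent.L03.BlowAcyc.OnePoint
import Groth.Agent.L03.VBPn.CokerSimple

/-!
# Maps between sums of pulled back twisting sheaves on a blow-up of points
-/

set_option autoImplicit false
set_option linter.style.haveILetI false
set_option backward.isDefEq.respectTransparency false

universe u

open CategoryTheory CategoryTheory.Limits CategoryTheory.Abelian AlgebraicGeometry TopologicalSpace
open Groth.L00.Tensor (tensorIso tensorComm tensorUnitLeft tensorUnitRight)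

noncomputable section

namespace Groth.L03.BlowAcyc

variable {k : Type u} [Field k] {m : ℕ} {s : ℕ} {Pt : Fin s → ↥(CohB1.ProjSpace (m + 1) k)}
  (hP : Function.Injective Pt) (hPc : ∀ t, IsClosed ({Pt t} : Set ↥(CohB1.ProjSpace (m + 1) k)))
  (hZ : IsClosed (Set.range Pt)) {X : Scheme.{u}} {π : X ⟶ CohB1.ProjSpace (m + 1) k}
  (hπ : BlowUp.IsBlowUp π (Scheme.IdealSheafData.vanishingIdeal ⟨Set.range Pt, hZ⟩))

include hP hPc hπ in
/-- The global functions on the blow-up are constant. -/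
theorem toGlobal_bijective :
    Function.Bijective (Coh.toGlobal (π ≫ CohB1.ProjSpace.toSpec (m + 1) k)) := by
  obtain ⟨D, -, -⟩ := exists_setup hP hPc hZ hπ 0
  let Y := CohB1.ProjSpace (m + 1) k
  haveI : IsLocallyNoetherian Y := LocallyOfFiniteType.isLocallyNoetherian (CohB1.ProjSpace.toSpec (m + 1) k)
  haveI : IsIntegral Y := Groth.L16.ProjSpace.isIntegral (n := m + 1) (R := k)
  haveI := isProper hπ
  have hn : Pi1.IsNormalScheme Y := fun y => by
    haveI : IsRegularLocalRing (Y.presheaf.stalk y) := Groth.L22.PDual.regular_stalk y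
    haveI := Groth.L01.isDomain_of_regular (Y.presheaf.stalk y)
    exact ⟨inferInstance, Groth.L03.RegularNormal.isIntegrallyClosed _⟩
  have h1 : Function.Bijective π.appTop :=
    bijective_app hn π hπ (D.dense fun t => ne_genericPoint (hPc t)) ⊤
  have h : (Coh.toGlobal (π ≫ CohB1.ProjSpace.toSpec (m + 1) k) : k → Coh.Γtop X) =
      π.appTop ∘ Coh.toGlobal (CohB1.ProjSpace.toSpec (m + 1) k) := by
    funext a; simp [Coh.toGlobal]; rfl
  rw [h]
  exact h1.comp (Groth.L16.ProjSpace.toGlobal_bijective (n := m + 1) (R := k))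

variable [IsAlgClosed k]

theorem nonempty_pO_inv (π : X ⟶ CohB1.ProjSpace (m + 1) k) (c : ℤ) :
    Nonempty (CohB1.tensorMod (pO π c) (pO π (-c)) ≅ Coh.structureModule X) := by
  obtain ⟨e⟩ := nonempty_pO_add π c (-c)
  obtain ⟨y⟩ := Groth.L22.Reg.nonempty_O_zero (m + 1) k
  rw [add_neg_cancel] at e
  exact ⟨e ≪≫ (Scheme.Modules.pullback π).mapIso y ≪≫ Groth.L29.LocFree.pullbackUnitIso _⟩

include hP hPc hπ in
theorem subsingleton_HH_pO (c : ℤ) (i : ℕ) (h0 : ¬ (i = 0 ∧ 0 ≤ c))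
    (h1 : ¬ (i = m + 1 ∧ c ≤ -((m : ℤ) + 2))) : Subsingleton (Coh.HH X (pO π c) i) := by
  obtain ⟨D, -, hb⟩ := exists_setup hP hPc hZ hπ c
  exact hb i (Groth.L16.ProjSpace.subsingleton_HH_twist (m + 1) k c i h0
    (fun h => h1 ⟨h.1, by have := h.2; omega⟩))

include hP hPc hπ in
/-- `H^i` of the twist of a sum of copies. -/
theorem subsingleton_HH_sum_twist (a : ℕ) (c d : ℤ) (i : ℕ) (h0 : ¬ (i = 0 ∧ 0 ≤ c + d))
    (h1 : ¬ (i = m + 1 ∧ c + d ≤ -((m : ℤ) + 2))) {P : X.Modules}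
    (eP : P ≅ ∐ fun _ : Fin a => pO π c) :
    Subsingleton (Coh.HH X (CohB1.tensorMod P (pO π d)) i) := by
  obtain ⟨e⟩ := nonempty_pO_add π c d
  exact Groth.L14.LocHilbLift.subsingleton_HH_of_iso (tensorIso eP.symm (Iso.refl _)) i
    (subsingleton_HH_sigma_tensor a i (Groth.L14.LocHilbLift.subsingleton_HH_of_iso e.symm i
      (subsingleton_HH_pO hP hPc hZ hπ (c + d) i h0 h1)))

include hP hPc hπ in
theorem hom_eq_zero (b a : ℕ) (cq cp : ℤ) (hc : cp < cq) {P Q : X.Modules}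
    (eP : P ≅ ∐ fun _ : Fin a => pO π cp) (eQ : Q ≅ ∐ fun _ : Fin b => pO π cq) (g : Q ⟶ P) : g = 0 := by
  obtain ⟨e⟩ := nonempty_pO_inv π cq
  have := Groth.L03.VBPn.CokerSimple.hom_sigma_eq_zero
    (Groth.L03.VBPn.CokerSimple.hom_eq_zero_of_twist e
      (subsingleton_HH_sum_twist hP hPc hZ hπ a cp (-cq) 0 (by omega) (by omega) eP)) (eQ.inv ≫ g)
  rw [← cancel_epi eQ.inv, this, comp_zero]

include hP hPc hπ in
theorem subsingleton_ext [HasExt.{u} X.Modules] (hm : 1 ≤ m) (b a : ℕ) (cq cp : ℤ) {P Q : X.Modules}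
    (eP : P ≅ ∐ fun _ : Fin a => pO π cp) (eQ : Q ≅ ∐ fun _ : Fin b => pO π cq) :
    Subsingleton (Ext Q P 1) := by
  obtain ⟨e⟩ := nonempty_pO_inv π cq
  exact Groth.L03.VBPn.CokerSimple.ext_of_iso_left eQ 1
    (Groth.L03.VBPn.ext_sigma_subsingleton _ P 1 fun _ => Groth.L22.PDual.subsingleton_ext_of_twist e 0 P
      (subsingleton_HH_sum_twist hP hPc hZ hπ a cp (-cq) 1 (by omega) (by omega) eP))

end Groth.L03.BlowAcyc
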