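import Groth.Agent.L03.BlowAcyc.PointGen
import Groth.Agent.L03.BlowAcyc.PointsHom

/-!
# Twists by positive multiples of the exceptional divisor over a point

`H^i(X, π^*O(c) ⊗ I_E^{-d})` vanishes in degrees below the dimension.
-/

set_option autoImplicit false
set_option linter.style.haveILetI false
set_option backward.isDefEq.respectTransparency false

universe u

open CategoryTheory CategoryTheory.Limits AlgebraicGeometry TopologicalSpace
open Groth.L11.BlowSmooth (sI)
open Groth.L13.BU (idealOf)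
open Groth.L13.BlowP1 (exIdeal exι)
open Groth.L13.PointBlow (pre preι opensRange_preι)
open Groth.L03.BlowPt (ptI)
open Groth.L00.Tensor (tensorIso tensorComm tensorAssoc tensorUnitLeft tensorUnitRight tensorRightF)
open Groth.L16.CohLinear (hmap exact_hmap_hmap exact_delta_hmap)
open Groth.L22.Reg (Generates kos)

noncomputable section

namespace Groth.L03.BlowAcyc

/-- The restriction of a power of an inverse of the exceptional ideal to the divisor has no cohomology. -/
theorem subsingleton_HH_exc_inverse_pow {A : Type u} [CommRing A] {n : ℕ} {f : Fin (n + 1) → A} {X : Scheme.{u}}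
    {b : X ⟶ Spec (CommRingCat.of A)} (hb : BlowUp.IsBlowUp b (idealOf (sI f))) (hf : CAlgX.IsQuasiRegular f)
    {L' : X.Modules} (hL' : ClSub.IsInverseOf L' (L f b)) (j : ℕ) (hj : 1 ≤ j) (hj' : j ≤ n) (q : ℕ) :
    Subsingleton (Coh.HH X ((Scheme.Modules.pushforward (exι f b)).obj
      ((Scheme.Modules.pullback (exι f b)).obj (CohB1.tensorPow L' j))) q) := by
  obtain ⟨e, ⟨τ⟩⟩ := Groth.L13.BlowP1.exists_exceptional f b hb hf
  let g := e.hom ≫ exι f b
  obtain ⟨c⟩ := hL'
  obtain ⟨em⟩ := nonempty_inverse_pow_iso_twist τ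
    (Groth.L29.DC.PullTensor.pullTensor g L' (L f b) ≪≫ (Scheme.Modules.pullback g).mapIso c ≪≫
      Groth.L29.LocFree.pullbackUnitIso g) j
  exact subsingleton_HH_exc e (-(j : ℤ)) (Groth.L18.Ample.pullPow g _ _ ≪≫ em) q
    (Groth.L16.ProjSpace.subsingleton_HH_twist n _ _ q (by omega) (by omega))

/-- The exceptional part over one point is computed on its chart. -/
theorem subsingleton_HH_ptExc_part' {X Y : Scheme.{u}} {σ : X ⟶ Y} {s n : ℕ} {Pt : Fin s → Y}
    {hPc : ∀ t, IsClosed ({Pt t} : Set Y)} {I : Y.IdealSheafData}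
    (D : PointCharts Pt hPc I n) {N : X.Modules} (t : Fin s) (q : ℕ)
    {M : (pre σ (D.U t)).Modules} (i : (Scheme.Modules.pullback (preι σ (D.U t))).obj N ≅ M)
    (hvan : Subsingleton (Coh.HH (pre σ (D.U t))
      ((Scheme.Modules.pushforward (exι (D.f t) (pullback.fst (D.U t).2.fromSpec σ))).obj
        ((Scheme.Modules.pullback (exι (D.f t) (pullback.fst (D.U t).2.fromSpec σ))).obj M)) q)) :
    Subsingleton (Coh.HH X ((Scheme.Modules.pushforward (ptExc hPc σ t).subschemeι).obj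
      ((Scheme.Modules.pullback (ptExc hPc σ t).subschemeι).obj N)) q) := by
  let E := ptExc hPc σ t
  let j := preι σ (D.U t)
  let p := pullback.fst (D.U t).2.fromSpec σ
  have hC : exIdeal (D.f t) p = E.comap j := exIdeal_pre (σ := σ) (I := ptI (hPc t)) (D.U t) (D.pt t)
  obtain ⟨a⟩ := Groth.L17.nonempty_HH_push_of_isClosedImmersion (exι (D.f t) p)
    ((Scheme.Modules.pullback (exι (D.f t) p)).obj M) q
  have hC0 := @Equiv.subsingleton _ _ a.toEquiv hvan
  refine Groth.L14.LocHilbLift.subsingleton_HH_push E.subschemeι _ q ?_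
  suffices key : ∀ (C : (pre σ (D.U t)).IdealSheafData), C = E.comap j →
      Subsingleton (Coh.HH C.subscheme ((Scheme.Modules.pullback C.subschemeι).obj M) q) →
      Subsingleton (Coh.HH E.subscheme ((Scheme.Modules.pullback E.subschemeι).obj N) q) from
    key _ hC hC0
  rintro C rfl hC1
  let j' := (E.comapIso j).hom ≫ pullback.snd _ _
  have hj : j' ≫ E.subschemeι = (E.comap j).subschemeι ≫ j := by
    simp only [j', Category.assoc, ← pullback.condition, Scheme.IdealSheafData.comapIso_hom_fst_assoc]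
  haveI : IsIso j' := by
    refine isIso_of_isOpenImmersion_of_opensRange_eq_top j' ?_
    rw [Scheme.Hom.opensRange_comp_of_isIso, Scheme.Hom.opensRange_pullbackSnd, opensRange_preι, eq_top_iff]
    intro z _
    show σ (E.subschemeι z) ∈ (D.U t).1
    have hz : E.subschemeι z ∈ (E.support : Set X) := by
      rw [← Scheme.IdealSheafData.range_subschemeι]; exact ⟨z, rfl⟩
    rw [eq_pt_of_mem_support hz]
    exact D.mem t
  obtain ⟨b⟩ := nonempty_HH_pullback_iso j' ((Scheme.Modules.pullback E.subschemeι).obj N) q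
  refine @Equiv.subsingleton _ _ b.symm.toEquiv (Groth.L14.LocHilbLift.subsingleton_HH_of_iso ?_ q hC1)
  exact ((Scheme.Modules.pullback (E.comap j).subschemeι).mapIso i).symm ≪≫
    (Scheme.Modules.pullbackComp _ j).app N ≪≫ (Scheme.Modules.pullbackCongr hj.symm).app N ≪≫
    ((Scheme.Modules.pullbackComp j' E.subschemeι).app N).symm

section Chase

variable {X : Scheme.{u}}

/-- The vanishing for the kernel of an epimorphism. -/
theorem subsingleton_X₁ {S : ShortComplex X.Modules} (hS : S.ShortExact) (i : ℕ)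
    (h₂ : Subsingleton (Coh.HH X S.X₂ i)) (h₃ : ∀ r, i = r + 1 → Subsingleton (Coh.HH X S.X₃ r)) :
    Subsingleton (Coh.HH X S.X₁ i) := by
  refine subsingleton_of_forall_eq 0 fun z => ?_
  rcases i with _ | r
  · haveI := hS.mono_f
    exact Groth.L21.RR.injective_hmap_zero S.f ((h₂.elim _ _).trans (map_zero _).symm)
  · obtain ⟨w, rfl⟩ := (exact_delta_hmap hS r z).1 (h₂.elim _ _)
    rw [(h₃ r rfl).elim w 0, map_zero]

variable {L F : X.Modules}

/-- The last term of a Koszul complex contains the top twist. -/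
theorem exists_retract : ∀ (σ : L ⟶ Coh.structureModule X) (l : List (L ⟶ Coh.structureModule X)),
    ∃ (i : CohB1.tensorMod F (CohB1.tensorPow L (l.length + 1)) ⟶ (kos F (σ :: l)).obj l.length)
      (r : (kos F (σ :: l)).obj l.length ⟶ CohB1.tensorMod F (CohB1.tensorPow L (l.length + 1))), i ≫ r = 𝟙 _
  | σ, [] => ⟨(tensorIso (Iso.refl F) (Groth.L00.Tensor.tensorPowOne L)).hom ≫ biprod.inl,
      biprod.fst ≫ (tensorIso (Iso.refl F) (Groth.L00.Tensor.tensorPowOne L)).inv,
      (Category.assoc _ _ _).trans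
        ((congrArg (_ ≫ ·) (biprod.inl_fst_assoc _)).trans (Iso.hom_inv_id _))⟩
  | σ, τ :: l => by
    obtain ⟨i, r, h⟩ := exists_retract τ l
    let e := tensorAssoc F (CohB1.tensorPow L (l.length + 1)) L
    refine ⟨e.inv ≫ (tensorRightF L).map i ≫ biprod.inl, biprod.fst ≫ (tensorRightF L).map r ≫ e.hom, ?_⟩
    simp [← Functor.map_comp_assoc, h]

/-- A top twist inherits the vanishing of the lower ones through the Koszul complex. -/
theorem subsingleton_top (hL : PicF.IsInvertible L) {σs : List (L ⟶ Coh.structureModule X)}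
    (hσ : Generates σs) (N : ℕ) (hF : ∀ i, i ≤ N → Subsingleton (Coh.HH X F i))
    (hlow : ∀ j, j + 1 < σs.length → ∀ i, i ≤ N →
      Subsingleton (Coh.HH X (CohB1.tensorMod F (CohB1.tensorPow L (j + 1))) i))
    (i : ℕ) (hi : i ≤ N) :
    Subsingleton (Coh.HH X (CohB1.tensorMod F (CohB1.tensorPow L σs.length)) i) := by
  rcases σs with _ | ⟨σ, l⟩
  · exact Groth.L22.Reg.subsingleton_iso (tensorUnitRight F).symm i (hF i hi)
  let C := kos F (σ :: l)
  have hex : ∀ x, C.ExactAtPt x := fun x => Groth.L22.Reg.kos_exactAtPt x hL (hσ x)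
  have hobj := Groth.L22.Reg.kos_obj (F := F) (σs := σ :: l)
    (PP := fun j M => j < l.length → ∀ i, i ≤ N → Subsingleton (Coh.HH X M i))
    (fun _ _ hM _ _ _ => Groth.L03.Euler.subsingleton_HH_of_isZero hM _)
    (fun _ _ _ hA hB hj i hi => Groth.L22.Reg.subsingleton_biprod _ (hA hj i hi) (hB hj i hi))
    (fun _ _ _ e hA hj i hi => Groth.L22.Reg.subsingleton_iso e _ (hA hj i hi))
    (fun j hj => hlow j (by simpa using hj))
  have hZ : ∀ j, j < l.length → ∀ i, i ≤ N → Subsingleton (Coh.HH X (C.Z j) i) := by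
    intro j
    induction j with
    | zero =>
      exact fun hj i hi => subsingleton_X₁ (Groth.L22.Reg.zSC₀_shortExact hex) i (hobj 0 hj i hi)
        (fun r hr => hF r (by omega))
    | succ j ih =>
      exact fun hj i hi => subsingleton_X₁ (Groth.L22.Reg.zSC_shortExact hex j) i
        (hobj (j + 1) hj i hi) (fun r hr => ih (by omega) r (by omega))
  have hz : IsZero (C.Z l.length) := by
    haveI := (Groth.L22.Reg.zSC_shortExact hex l.length).epi_g
    exact IsZero.of_epi (C.zSC l.length).g (Groth.L22.Reg.kos_isZero (σ :: l) (l.length + 1) (by simp))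
  have htop : Subsingleton (Coh.HH X (C.obj l.length) i) := by
    have h0 := Groth.L03.Euler.subsingleton_HH_of_isZero hz i
    rcases hl : l.length with _ | r
    · rw [hl] at h0
      exact Groth.L22.Reg.subsingleton_of_exact (exact_hmap_hmap (Groth.L22.Reg.zSC₀_shortExact hex) i) h0
        (hF i hi) (map_zero _)
    · rw [hl] at h0
      exact Groth.L22.Reg.subsingleton_of_exact (exact_hmap_hmap (Groth.L22.Reg.zSC_shortExact hex r) i) h0
        (hZ r (by omega) i hi) (map_zero _)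
  obtain ⟨ι, r, hr⟩ := exists_retract (F := F) σ l
  refine subsingleton_of_forall_eq 0 fun z => ?_
  have h1 := Groth.L16.CohLinear.hmap_comp ι r i z
  rw [hr, Groth.L16.CohLinear.hmap_id, htop.elim (hmap ι i z) 0, map_zero] at h1
  exact h1

end Chase

section Pn

variable {k : Type u} [Field k] [IsAlgClosed k] {m : ℕ} {p : ↥(CohB1.ProjSpace (m + 1) k)}
  (hp : IsClosed ({p} : Set ↥(CohB1.ProjSpace (m + 1) k))) {X : Scheme.{u}}
  {π : X ⟶ CohB1.ProjSpace (m + 1) k} (hπ : BlowUp.IsBlowUp π (ptI hp)) {J' : X.Modules}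
  (hJ : ClSub.IsInverseOf J' (ClSub.idealMod (BlowUp.exceptional π (ptI hp))))

include hπ hJ in
/-- Few copies of the exceptional divisor do not change the cohomology. -/
theorem subsingleton_HH_base (c : ℤ) (i : ℕ) (d : ℕ) (hd : d ≤ m)
    (hc : Subsingleton (Coh.HH (CohB1.ProjSpace (m + 1) k) (Twist.twistProjSpace (m + 1) k c) i)) :
    Subsingleton (Coh.HH X (CohB1.tensorMod (pO π c) (CohB1.tensorPow J' d)) i) := by
  let Pt : Fin 1 → ↥(CohB1.ProjSpace (m + 1) k) := fun _ => p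
  have hP : Function.Injective Pt := fun a b _ => Subsingleton.elim a b
  have hPc : ∀ t, IsClosed ({Pt t} : Set ↥(CohB1.ProjSpace (m + 1) k)) := fun _ => hp
  have hrange : Set.range Pt = {p} := by ext y; simp [Pt, eq_comm]
  have hZ : IsClosed (Set.range Pt) := hrange ▸ hp
  have hset : (⟨Set.range Pt, hZ⟩ : Closeds ↥(CohB1.ProjSpace (m + 1) k)) = ⟨{p}, hp⟩ := Closeds.ext hrange
  have hπ' : BlowUp.IsBlowUp π (Scheme.IdealSheafData.vanishingIdeal ⟨Set.range Pt, hZ⟩) := by
    rw [hset]; exact hπ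
  let O := Twist.twistProjSpace (m + 1) k c
  haveI : IsLocallyNoetherian (CohB1.ProjSpace (m + 1) k) :=
    LocallyOfFiniteType.isLocallyNoetherian (CohB1.ProjSpace.toSpec (m + 1) k)
  have hO : PicF.IsInvertible O := Groth.L16.ProjTwist.isInvertible_twistProjSpace (m + 1) k c
  choose R e hR he using fun t => Groth.L18.Frame.exists_frame hO (Pt t)
  obtain ⟨D, hD⟩ := nonempty_pointCharts Pt hP hPc hZ m (fun t => Groth.L22.PDual.regular_stalk (Pt t))
    (fun t => Groth.L22.PDual.dim_stalk (hPc t)) R hR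
  obtain ⟨eo⟩ := Groth.L18.PBundle.nonempty_iso_unit ((((he 0).mono (hD 0)).pullback (D.U 0).2.fromSpec O).mono
    (show (⊤ : (Spec _).Opens) ≤ (D.U 0).2.fromSpec ⁻¹ᵁ (D.U 0).1 from ((D.U 0).2.fromSpec_preimage_self).ge))
  let j := preι π (D.U 0)
  let eO : (Scheme.Modules.pullback j).obj (pO π c) ≅ Coh.structureModule (pre π (D.U 0)) :=
    (Scheme.Modules.pullbackComp j π).app O ≪≫
      (Scheme.Modules.pullbackCongr pullback.condition.symm).app O ≪≫
      ((Scheme.Modules.pullbackComp (pullback.fst _ π) (D.U 0).2.fromSpec).app O).symm ≪≫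
      (Scheme.Modules.pullback _).mapIso eo ≪≫ Groth.L29.LocFree.pullbackUnitIso _
  have hEi : PicF.IsInvertible (ClSub.idealMod (BlowUp.exceptional π (ptI hp))) :=
    (Groth.Agent.L19.IdealInvertible.isEffCartier_iff _).2 hπ.1
  have hJi := Groth.L13.PointBlow.isInvertible_of_isInverseOf hEi hJ
  obtain ⟨cJ⟩ := hJ
  obtain ⟨g⟩ := nonempty_idealMod_pre (σ := π) (I := ptI (hPc 0)) (D.U 0) (D.pt 0)
  have hinv : ClSub.IsInverseOf ((Scheme.Modules.pullback j).obj J')
      (L (D.f 0) (pullback.fst (D.U 0).2.fromSpec π)) :=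
    ⟨tensorIso (Iso.refl _) g.symm ≪≫ Groth.L29.DC.PullTensor.pullTensor j _ _ ≪≫
      (Scheme.Modules.pullback j).mapIso cJ ≪≫ Groth.L29.LocFree.pullbackUnitIso _⟩
  induction d with
  | zero =>
    obtain ⟨D', -, hb⟩ := exists_setup hP hPc hZ hπ' c
    exact Groth.L14.LocHilbLift.subsingleton_HH_of_iso (tensorUnitRight _).symm i (hb i hc)
  | succ d ih =>
    have hNi : PicF.IsInvertible (CohB1.tensorMod (pO π c) (CohB1.tensorPow J' (d + 1))) :=
      Groth.L18.GenLoc.isInvertible_tensor (Groth.L18.Ample.isInvertible_pullback π hO)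
        (Groth.L18.Ample.isInvertible_tensorPow hJi _)
    obtain ⟨S, hS, e₁, e₂, -, ⟨e₃⟩⟩ := Groth.L13.PairBlow.exists_seq (ptExc hPc π 0)
      (Groth.L16.Existence.isFinLocFree_of_isInvertible hNi)
    refine Groth.L14.LocHilbLift.subsingleton_HH_of_iso e₂ i
      (Groth.L22.Reg.subsingleton_of_exact (exact_hmap_hmap hS i) ?_ ?_ (map_zero _))
    · refine Groth.L14.LocHilbLift.subsingleton_HH_of_iso (?_ ≪≫ e₁.symm) i (ih (by omega))
      exact (tensorComm _ _ ≪≫ tensorAssoc _ _ _ ≪≫ tensorIso (Iso.refl _)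
        (tensorAssoc _ _ _ ≪≫ tensorIso (Iso.refl _) cJ ≪≫ tensorUnitRight _)).symm
    · exact Groth.L14.LocHilbLift.subsingleton_HH_of_iso e₃.symm i
        (subsingleton_HH_ptExc_part' D 0 i
          ((Groth.L29.DC.PullTensor.pullTensor j _ _).symm ≪≫
            tensorIso eO (Groth.L18.Ample.pullPow j _ _) ≪≫ tensorUnitLeft _)
          (subsingleton_HH_exc_inverse_pow (isBlowUp_pre hπ' (D.U 0) (D.ideal 0)) (D.qreg 0) hinv
            (d + 1) (by omega) hd i))

include hπ hJ in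
/-- `H^i(X, π^*O(c) ⊗ I_E^{-d}) = 0` for `c < 0`, `i` below the dimension, `d ≤ m` or `d < -c`. -/
theorem subsingleton_HH_neg (hm : 1 ≤ m) (d : ℕ) : ∀ (c : ℤ), c < 0 → (d ≤ m ∨ (d : ℤ) < -c) → ∀ i, i ≤ m →
    Subsingleton (Coh.HH X (CohB1.tensorMod (pO π c) (CohB1.tensorPow J' d)) i) := by
  induction d using Nat.strong_induction_on with
  | _ d ih =>
    intro c hc hd i hi
    by_cases hdm : d ≤ m
    · exact subsingleton_HH_base hp hπ hJ c i d hdm
        (Groth.L16.ProjSpace.subsingleton_HH_twist (m + 1) k c i (by omega) (by omega))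
    have hdc : (d : ℤ) < -c := hd.resolve_left hdm
    obtain ⟨σs, hlen, hσ⟩ := exists_generators hp hm hπ hJ
    have hJi := Groth.L13.PointBlow.isInvertible_of_isInverseOf
      ((Groth.Agent.L19.IdealInvertible.isEffCartier_iff _).2 hπ.1) hJ
    have hLi : PicF.IsInvertible (CohB1.tensorMod (pO π (-1)) J') :=
      Groth.L18.GenLoc.isInvertible_tensor
        (Groth.L18.Ample.isInvertible_pullback π (Groth.L16.ProjTwist.isInvertible_twistProjSpace (m + 1) k _)) hJi
    by_cases hpos : σs.length = 0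
    · refine Groth.L03.Euler.subsingleton_HH_of_isZero ((Groth.L21.Mod.isZero_iff_stalk_subsingleton _).2 fun x => ?_) i
      obtain ⟨τ, hτ, -⟩ := hσ x
      rw [List.eq_nil_of_length_eq_zero hpos] at hτ
      simp at hτ
    obtain ⟨bb, hbb⟩ : ∃ bb, bb = σs.length := ⟨_, rfl⟩
    obtain ⟨d', rfl⟩ : ∃ d', d = d' + bb := ⟨d - bb, by omega⟩
    let F := CohB1.tensorMod (pO π (c + bb)) (CohB1.tensorPow J' d')
    have hpow : ∀ j : ℕ, Nonempty (CohB1.tensorMod F (CohB1.tensorPow (CohB1.tensorMod (pO π (-1)) J') j) ≅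
        CohB1.tensorMod (pO π (c + bb + -(j : ℤ))) (CohB1.tensorPow J' (d' + j))) := fun j => by
      obtain ⟨e⟩ := nonempty_pow_twist π (-1) J' 1 j
      obtain ⟨e'⟩ := nonempty_pO_add π (c + bb) (-(j : ℤ))
      have e2 : CohB1.tensorPow (CohB1.tensorMod (pO π (-1)) J') j ≅
          CohB1.tensorMod (pO π (-(j : ℤ))) (CohB1.tensorPow J' j) :=
        Groth.L00.Tensor.tensorPowIso (tensorIso (Iso.refl _) (Groth.L00.Tensor.tensorPowOne J').symm) j ≪≫ e ≪≫
          tensorIso (eqToIso (by rw [mul_neg_one])) (eqToIso (by rw [one_mul]))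
      exact ⟨tensorIso (Iso.refl _) e2 ≪≫ tensorAssoc _ _ _ ≪≫ tensorIso (Iso.refl _)
        ((tensorAssoc _ _ _).symm ≪≫ tensorIso (tensorComm _ _) (Iso.refl _) ≪≫ tensorAssoc _ _ _) ≪≫
        (tensorAssoc _ _ _).symm ≪≫ tensorIso e' (Groth.L00.Tensor.tensorPowAdd J' d' j)⟩
    obtain ⟨et⟩ := hpow bb
    subst hbb
    refine Groth.L22.Reg.subsingleton_iso (et ≪≫ eqToIso (by rw [add_neg_cancel_right])) i
      (subsingleton_top hLi hσ m (fun r hr => ih d' (by omega) _ (by omega) (Or.inr (by omega)) r hr)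
        (fun j hj r hr => ?_) i hi)
    obtain ⟨ej⟩ := hpow (j + 1)
    exact Groth.L22.Reg.subsingleton_iso ej.symm r (ih _ (by omega) _ (by omega) (Or.inr (by omega)) r hr)

end Pn

end Groth.L03.BlowAcyc

namespace Groth.L03.BlowAcyc

/-- Two inverses of the same module are isomorphic. -/
theorem nonempty_iso_of_inverse {X : Scheme.{u}} {A B M : X.Modules}
    (a : CohB1.tensorMod A M ≅ Coh.structureModule X) (b : CohB1.tensorMod B M ≅ Coh.structureModule X) :
    Nonempty (A ≅ B) :=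
  ⟨(tensorUnitRight A).symm ≪≫ tensorIso (Iso.refl A) (tensorComm M B ≪≫ b).symm ≪≫
    (tensorAssoc A M B).symm ≪≫ tensorIso a (Iso.refl B) ≪≫ tensorUnitLeft B⟩

variable {k : Type u} [Field k] [IsAlgClosed k] {m : ℕ} {s : ℕ} {Pt : Fin s → ↥(CohB1.ProjSpace (m + 1) k)}
  (hP : Function.Injective Pt) (hPc : ∀ t, IsClosed ({Pt t} : Set ↥(CohB1.ProjSpace (m + 1) k)))
  (hZ : IsClosed (Set.range Pt)) {X : Scheme.{u}} {π : X ⟶ CohB1.ProjSpace (m + 1) k}
  (hπ : BlowUp.IsBlowUp π (Scheme.IdealSheafData.vanishingIdeal ⟨Set.range Pt, hZ⟩))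

include hP hPc hπ in
/-- Vanishing for `π^*O(c) ⊗ I_E^{-d}`, at most one point blown up. -/
theorem subsingleton_HH_twist_point_inv (hm : 1 ≤ m) (hs : s ≤ 1) {J' : X.Modules}
    (hJ : ClSub.IsInverseOf J' (ClSub.idealMod (BlowUp.exceptional π
      (Scheme.IdealSheafData.vanishingIdeal ⟨Set.range Pt, hZ⟩))))
    (c : ℤ) (d i : ℕ) (hc : c < 0) (hd : d ≤ m ∨ (d : ℤ) < -c) (hi : i ≤ m) :
    Subsingleton (Coh.HH X (CohB1.tensorMod (pO π c) (CohB1.tensorPow J' d)) i) := by
  obtain rfl | rfl : s = 0 ∨ s = 1 := by omega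
  · obtain ⟨D, -, hbase⟩ := exists_setup hP hPc hZ hπ c
    have hb := hbase i (Groth.L16.ProjSpace.subsingleton_HH_twist (m + 1) k c i (by omega) (by omega))
    have htop : BlowUp.exceptional π (Scheme.IdealSheafData.vanishingIdeal ⟨Set.range Pt, hZ⟩) = 1 := by
      rw [Scheme.IdealSheafData.one_eq_top]
      refine Groth.L22.Ideals.comap_eq_top _ π fun z hz => ?_
      obtain ⟨t, -⟩ := (D.supp _).1 hz
      exact t.elim0
    obtain ⟨o⟩ := Groth.L13.PointBlow.idealMod_one (X := X)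
    rw [htop] at hJ
    obtain ⟨cJ⟩ := hJ
    exact Groth.L14.LocHilbLift.subsingleton_HH_of_iso
      (tensorIso (Iso.refl _) (Groth.L00.Tensor.tensorPowIso
        ((tensorUnitRight J').symm ≪≫ tensorIso (Iso.refl _) o.symm ≪≫ cJ) d ≪≫
          Groth.L00.Tensor.tensorPowUnit X d) ≪≫ tensorUnitRight _).symm i hb
  · have hset : (⟨Set.range Pt, hZ⟩ : Closeds ↥(CohB1.ProjSpace (m + 1) k)) = ⟨{Pt 0}, hPc 0⟩ :=
      Closeds.ext (by ext y; simp [Fin.exists_fin_one, eq_comm])
    rw [hset] at hπ hJ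
    exact subsingleton_HH_neg (hPc 0) hπ hJ hm d c hc hd i hi

omit [IsAlgClosed k] in
theorem nonempty_pow_tensor_inverse {A M J' : X.Modules} (hJ : ClSub.IsInverseOf J' M) (b : ℕ) :
    Nonempty (CohB1.tensorMod (CohB1.tensorMod A (CohB1.tensorPow J' b)) (CohB1.tensorPow M b) ≅ A) := by
  obtain ⟨c⟩ := hJ
  exact ⟨tensorAssoc _ _ _ ≪≫ tensorIso (Iso.refl A) ((Groth.L00.Tensor.tensorPowTensor J' M b).symm ≪≫
    Groth.L00.Tensor.tensorPowIso c b ≪≫ Groth.L00.Tensor.tensorPowUnit X b) ≪≫ tensorUnitRight A⟩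

variable [IsAlgClosed k] in
/-- Powers of the inverse of `π^*O(a) ⊗ I_E^b`. -/
theorem nonempty_negH (π : X ⟶ CohB1.ProjSpace (m + 1) k) {M J' Hi Hm : X.Modules} (hJ : ClSub.IsInverseOf J' M)
    (a : ℤ) (b : ℕ) (eH : CohB1.tensorMod (pO π a) (CohB1.tensorPow M b) ≅ Hm)
    (hHi : ClSub.IsInverseOf Hi Hm) (t : ℕ) :
    Nonempty (CohB1.tensorPow Hi t ≅ CohB1.tensorMod (pO π (-((t : ℤ) * a))) (CohB1.tensorPow J' (b * t))) := by
  obtain ⟨z⟩ := nonempty_pO_inv π (-a)
  rw [neg_neg] at z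
  obtain ⟨u⟩ := nonempty_pow_tensor_inverse (A := pO π (-a)) hJ b
  have hV : CohB1.tensorMod (CohB1.tensorMod (pO π (-a)) (CohB1.tensorPow J' b)) Hm ≅ Coh.structureModule X :=
    tensorIso (Iso.refl _) (eH.symm ≪≫ tensorComm _ _) ≪≫ (tensorAssoc _ _ _).symm ≪≫
      tensorIso u (Iso.refl _) ≪≫ z
  obtain ⟨c⟩ := hHi
  obtain ⟨e⟩ := nonempty_iso_of_inverse c hV
  obtain ⟨et⟩ := nonempty_pow_twist π (-a) J' b t
  rw [mul_neg] at et
  exact ⟨Groth.L00.Tensor.tensorPowIso e t ≪≫ et⟩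

end Groth.L03.BlowAcyc
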