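import Groth.Agent.L03.BlowAcyc.JetH1
import Groth.Agent.L03.Euler.Twist

/-!
# Projective space blown up in at most one point: vanishing and twists
-/

set_option autoImplicit false
set_option linter.style.haveILetI false
set_option backward.isDefEq.respectTransparency false

universe u

open CategoryTheory CategoryTheory.Limits AlgebraicGeometry TopologicalSpace
open Groth.L03.BlowPt (ptI)
open Groth.L00.Tensor (tensorIso tensorComm tensorAssoc tensorUnitLeft tensorUnitRight tensorRightF)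

noncomputable section

namespace Groth.L03.BlowAcyc

/-- A finite sum of copies of an acyclic module, twisted. -/
theorem subsingleton_HH_sigma_tensor {X : Scheme.{u}} {M T : X.Modules} (a i : ℕ)
    (h : Subsingleton (Coh.HH X (CohB1.tensorMod M T) i)) :
    Subsingleton (Coh.HH X (CohB1.tensorMod (∐ fun _ : Fin a => M) T) i) := by
  refine Groth.L14.LocHilbLift.subsingleton_HH_of_iso ?_ i
    (Groth.L16.NegPow.subsingleton_HH_freeTensor (CohB1.tensorMod M T) a i h)
  exact PreservesCoproduct.iso (tensorRightF (CohB1.tensorMod M T)) (fun _ : Fin a => Coh.structureModule X) ≪≫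
    Sigma.mapIso (fun _ => tensorUnitLeft _) ≪≫
    (PreservesCoproduct.iso (tensorRightF T) (fun _ : Fin a => M)).symm

variable {k : Type u} [Field k] [IsAlgClosed k] {m : ℕ} {s : ℕ} {Pt : Fin s → ↥(CohB1.ProjSpace (m + 1) k)}
  (hP : Function.Injective Pt) (hPc : ∀ t, IsClosed ({Pt t} : Set ↥(CohB1.ProjSpace (m + 1) k)))
  (hZ : IsClosed (Set.range Pt)) {X : Scheme.{u}} {π : X ⟶ CohB1.ProjSpace (m + 1) k}
  (hπ : BlowUp.IsBlowUp π (Scheme.IdealSheafData.vanishingIdeal ⟨Set.range Pt, hZ⟩))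

/-- The pullback of `O(c)`. -/
abbrev pO (π : X ⟶ CohB1.ProjSpace (m + 1) k) (c : ℤ) : X.Modules :=
  (Scheme.Modules.pullback π).obj (Twist.twistProjSpace (m + 1) k c)

theorem nonempty_pO_add (π : X ⟶ CohB1.ProjSpace (m + 1) k) (c c' : ℤ) :
    Nonempty (CohB1.tensorMod (pO π c) (pO π c') ≅ pO π (c + c')) := by
  obtain ⟨e⟩ := Groth.L16.ProjTwist.nonempty_tensor_twist_iso_one (CohB1.polyGrading (m + 1) k)
    (cover_deg_one (m + 1) k) c c'
  exact ⟨Groth.L29.DC.PullTensor.pullTensor π _ _ ≪≫ (Scheme.Modules.pullback π).mapIso e⟩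

/-- `(π^*O(a) ⊗ M^b)^t`. -/
theorem nonempty_pow_twist (π : X ⟶ CohB1.ProjSpace (m + 1) k) (a : ℤ) (M : X.Modules) (b t : ℕ) :
    Nonempty (CohB1.tensorPow (CohB1.tensorMod (pO π a) (CohB1.tensorPow M b)) t ≅
      CohB1.tensorMod (pO π (t * a)) (CohB1.tensorPow M (b * t))) := by
  obtain ⟨e⟩ := Groth.L16.ProjTwist.nonempty_tensorPow_twist_iso (CohB1.polyGrading (m + 1) k) a
    (cover_deg_one (m + 1) k) t
  exact ⟨Groth.L00.Tensor.tensorPowTensor _ _ t ≪≫
    tensorIso ((Groth.L18.Ample.pullPow π _ t).symm ≪≫ (Scheme.Modules.pullback π).mapIso e)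
      (Groth.L00.Tensor.tensorPowMul M b t)⟩

include hP hπ hPc in
/-- Vanishing for `π^*O(c) ⊗ I_E^d`, at most one point blown up. -/
theorem subsingleton_HH_twist_point (hm : 1 ≤ m) (hs : s ≤ 1) (c : ℤ) (d i : ℕ) (hi : 1 ≤ i) (hi' : i ≤ m + 1)
    (h1 : i = 1 → d = 0 ∨ (d : ℤ) ≤ c) (htop : i = m + 1 → -((m : ℤ) + 1) ≤ c) :
    Subsingleton (Coh.HH X (CohB1.tensorMod (pO π c)
      (CohB1.tensorPow (ClSub.idealMod (BlowUp.exceptional π
        (Scheme.IdealSheafData.vanishingIdeal ⟨Set.range Pt, hZ⟩))) d)) i) := by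
  obtain ⟨D, hL, hbase⟩ := exists_setup hP hPc hZ hπ c
  have hb := hbase i (Groth.L16.ProjSpace.subsingleton_HH_twist (m + 1) k c i (by omega) (fun h => by
    have := htop h.1; omega))
  rcases Nat.eq_zero_or_pos d with rfl | hd
  · exact Groth.L14.LocHilbLift.subsingleton_HH_of_iso (tensorUnitRight _).symm i hb
  obtain rfl | rfl : s = 0 ∨ s = 1 := by omega
  · have htop' : BlowUp.exceptional π (Scheme.IdealSheafData.vanishingIdeal ⟨Set.range Pt, hZ⟩) = 1 := by
      rw [Scheme.IdealSheafData.one_eq_top]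
      refine Groth.L22.Ideals.comap_eq_top _ π fun z hz => ?_
      obtain ⟨t, -⟩ := (D.supp _).1 hz
      exact t.elim0
    obtain ⟨o⟩ := Groth.L13.PointBlow.idealMod_one (X := X)
    rw [htop']
    exact Groth.L14.LocHilbLift.subsingleton_HH_of_iso
      (tensorIso (Iso.refl _) (Groth.L00.Tensor.tensorPowIso o d ≪≫ Groth.L00.Tensor.tensorPowUnit X d) ≪≫
        tensorUnitRight _).symm i hb
  · have hset : (⟨Set.range Pt, hZ⟩ : Closeds ↥(CohB1.ProjSpace (m + 1) k)) = ⟨{Pt 0}, hPc 0⟩ :=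
      Closeds.ext (by ext y; simp [Fin.exists_fin_one, eq_comm])
    by_cases hi1 : i = 1
    · subst hi1
      obtain ⟨c', rfl⟩ := Int.eq_ofNat_of_zero_le (show 0 ≤ c by rcases h1 rfl with h | h <;> omega)
      have hπ' : BlowUp.IsBlowUp π (ptI (hPc 0)) := by rw [hset] at hπ; exact hπ
      rw [hset]
      exact subsingleton_H1_point hm (hPc 0) hπ' c' d (by rcases h1 rfl with h | h <;> omega)
    · have key : ∀ e : ℕ, ∃ N, LooksPow D π N ∧ Subsingleton (Coh.HH X N i) ∧
          Nonempty (N ≅ CohB1.tensorMod (pO π c) (CohB1.tensorPow (ClSub.idealMod (ptExc hPc π 0)) e)) := by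
        intro e
        induction e with
        | zero => exact ⟨_, hL, hb, ⟨(tensorUnitRight _).symm⟩⟩
        | succ e ih =>
          obtain ⟨N, hN, hv, ⟨g⟩⟩ := ih
          exact ⟨_, looksPow_step hπ D hN 0, subsingleton_HH_step hπ D hN 0 i (by omega) hv,
            ⟨tensorComm _ _ ≪≫ tensorIso g (Iso.refl _) ≪≫ tensorAssoc _ _ _⟩⟩
      obtain ⟨N, -, hv, ⟨g⟩⟩ := key d
      refine Groth.L14.LocHilbLift.subsingleton_HH_of_iso (g ≪≫ ?_) i hv
      exact eqToIso (by rw [hset])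

end Groth.L03.BlowAcyc
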