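import Groth.Agent.L03.BlowAcyc.Points
import Groth.Agent.L22.PDual.EnriquesSeveri
import Groth.Agent.L16.ProjSpace.Basic
import Groth.Agent.L03.RegularNormal

/-!
# Projective space blown up in finitely many points
-/

set_option autoImplicit false
set_option linter.style.haveILetI false
set_option backward.isDefEq.respectTransparency false

universe u

open CategoryTheory CategoryTheory.Limits AlgebraicGeometry TopologicalSpace
open Groth.L11.BlowSmooth (sI)

noncomputable section

namespace Groth.L03.BlowAcyc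

/-- Acyclic direct images have the same cohomology. -/
theorem nonempty_HH_push_of_isZero {X Y : Scheme.{u}} (σ : X ⟶ Y) (M : X.Modules)
    (h : ∀ q : ℕ, IsZero ((Coh.RpushAb σ (q + 1)).obj (Coh.toAb M))) (i : ℕ) :
    Nonempty (Coh.HH X M i ≃+ Coh.HH Y ((Coh.push σ).obj M) i) := by
  have hl : Groth.L10.SiteCoh.LocAcyclic (Opens.grothendieckTopology Y) (Opens.map σ.base) (Coh.toAb M) :=
    (Groth.L10.SiteCoh.isZero_Rpush_succ_iff _ (Opens.map σ.base) (Coh.toAb M)).1 h
  exact Groth.L10.TopCoh.nonempty_H_push (Y := Y.toTopCat) σ.base (Coh.toAb M) hl i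

variable {k : Type u} [Field k] {m : ℕ} {s : ℕ} {Pt : Fin s → ↥(CohB1.ProjSpace (m + 1) k)}
  (hP : Function.Injective Pt) (hPc : ∀ t, IsClosed ({Pt t} : Set ↥(CohB1.ProjSpace (m + 1) k)))
  (hZ : IsClosed (Set.range Pt)) {X : Scheme.{u}} {π : X ⟶ CohB1.ProjSpace (m + 1) k}
  (hπ : BlowUp.IsBlowUp π (Scheme.IdealSheafData.vanishingIdeal ⟨Set.range Pt, hZ⟩))

theorem ne_genericPoint {x : ↥(CohB1.ProjSpace (m + 1) k)} [IsIntegral (CohB1.ProjSpace (m + 1) k)]
    (hx : IsClosed ({x} : Set ↥(CohB1.ProjSpace (m + 1) k))) :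
    genericPoint (CohB1.ProjSpace (m + 1) k) ≠ x := by
  intro h
  have h1 := Groth.L22.PDual.dim_stalk (k := k) (n := m + 1) hx
  subst h
  have h2 : ringKrullDim ((CohB1.ProjSpace (m + 1) k).presheaf.stalk (genericPoint (CohB1.ProjSpace (m + 1) k))) = 0 :=
    ringKrullDim_eq_zero_of_field (CohB1.ProjSpace (m + 1) k).functionField
  rw [h2] at h1
  exact absurd h1.symm (by exact_mod_cast Nat.succ_ne_zero m)

include hP hπ in
/-- The common set-up: charts, the pullback of `O(c)`, and its cohomology. -/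
theorem exists_setup (c : ℤ) :
    ∃ (D : PointCharts Pt hPc (Scheme.IdealSheafData.vanishingIdeal ⟨Set.range Pt, hZ⟩) m),
      LooksPow D π ((Scheme.Modules.pullback π).obj (Twist.twistProjSpace (m + 1) k c)) ∧
      ∀ i : ℕ, Subsingleton (Coh.HH (CohB1.ProjSpace (m + 1) k) (Twist.twistProjSpace (m + 1) k c) i) →
        Subsingleton (Coh.HH X ((Scheme.Modules.pullback π).obj (Twist.twistProjSpace (m + 1) k c)) i) := by
  let Y := CohB1.ProjSpace (m + 1) k
  haveI : IsLocallyNoetherian Y := LocallyOfFiniteType.isLocallyNoetherian (CohB1.ProjSpace.toSpec (m + 1) k)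
  haveI : IsIntegral Y := Groth.L16.ProjSpace.isIntegral (n := m + 1) (R := k)
  have hreg : ∀ y : Y, IsRegularLocalRing (Y.presheaf.stalk y) := fun y => Groth.L22.PDual.regular_stalk y
  let O := Twist.twistProjSpace (m + 1) k c
  have hO : PicF.IsInvertible O := Groth.L16.ProjTwist.isInvertible_twistProjSpace (m + 1) k c
  choose R e hR he using fun t => Groth.L18.Frame.exists_frame hO (Pt t)
  obtain ⟨D, hD⟩ := nonempty_pointCharts Pt hP hPc hZ m (fun t => hreg _)
    (fun t => Groth.L22.PDual.dim_stalk (hPc t)) R hR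
  refine ⟨D, looksPow_pullback D hO fun t => ?_, fun i hi => ?_⟩
  · exact Groth.L18.PBundle.nonempty_iso_unit ((((he t).mono (hD t)).pullback (D.U t).2.fromSpec O).mono
      (show (⊤ : (Spec _).Opens) ≤ (D.U t).2.fromSpec ⁻¹ᵁ (D.U t).1 from
        ((D.U t).2.fromSpec_preimage_self).ge))
  · haveI := isProper hπ
    have hn : Pi1.IsNormalScheme Y := fun y => by
      haveI := hreg y
      haveI := Groth.L01.isDomain_of_regular (Y.presheaf.stalk y)
      exact ⟨inferInstance, Groth.L03.RegularNormal.isIntegrallyClosed _⟩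
    have hfl := Groth.L16.Existence.isFinLocFree_of_isInvertible hO
    haveI := isIso_unit hπ hn (D.dense fun t => ne_genericPoint (hPc t)) hfl
    obtain ⟨a⟩ := nonempty_HH_push_of_isZero π ((Scheme.Modules.pullback π).obj O)
      (fun q => isZero_RpushAb_pullback hπ D.locQR hfl (q + 1) q.succ_pos) i
    exact @Equiv.subsingleton _ _ a.toEquiv (Groth.L14.LocHilbLift.subsingleton_HH_of_iso
      (asIso ((Scheme.Modules.pullbackPushforwardAdjunction π).unit.app O)) i hi)

end Groth.L03.BlowAcyc
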