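import Groth.Agent.L03.BlowPt.Pair
import Groth.Agent.L13.PairBlow.Points
import Groth.Agent.L03.QuasiRegularBC

/-!
# Charts at regular closed points
-/

set_option autoImplicit false
set_option linter.style.haveILetI false
set_option backward.isDefEq.respectTransparency false
set_option maxSynthPendingDepth 3

universe u

open CategoryTheory AlgebraicGeometry TopologicalSpace RingTheory.Sequence IsLocalRing
open Groth.L11.BlowSmooth
open Groth.L03.BlowPt (ptI ideal_ptI)

noncomputable section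

namespace Groth.L03.BlowAcyc

variable {X : Scheme.{u}}

/-- Quasi-regular parameters generate the ideal of a regular closed point on an affine neighbourhood. -/
theorem exists_tuple [IsLocallyNoetherian X] {x : X} (hx : IsClosed ({x} : Set X)) (n : ℕ) (hreg : IsRegularLocalRing (X.presheaf.stalk x))
    (hd : ringKrullDim (X.presheaf.stalk x) = (n : ℕ)) :
    ∃ (U : X.affineOpens) (f : Fin n → Γ(X, U.1)), x ∈ U.1 ∧ CAlgX.IsQuasiRegular f ∧
      (ptI hx).ideal U = sI f := by
  classical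
  let I := ptI hx
  let i := I.subschemeι
  have hxI : x ∈ (I.support : Set X) := by
    simp [I, ptI]
  obtain ⟨z, hz⟩ : ∃ z, i z = x := by
    rw [← Scheme.IdealSheafData.range_subschemeι] at hxI; exact hxI
  haveI := Groth.L14.RegImmStalk.isNoetherianRing_stalk' (X := X) x
  have hker : ∀ (U : X.affineOpens) (hxU : x ∈ U.1),
      (RingHom.ker (i.app U.1).hom).map (X.presheaf.germ U.1 x hxU).hom =
        maximalIdeal (X.presheaf.stalk x) := by
    intro U hxU
    rw [show RingHom.ker (i.app U.1).hom = I.ideal U from Scheme.IdealSheafData.ker_subschemeι_app I U,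
      ideal_ptI hx U hxU]
    letI : Algebra Γ(X, U.1) (X.presheaf.stalk x) := (X.presheaf.germ U.1 x hxU).hom.toAlgebra
    haveI := U.2.isLocalization_stalk ⟨x, hxU⟩
    exact IsLocalization.AtPrime.map_eq_maximalIdeal (U.2.primeIdealOf ⟨x, hxU⟩).asIdeal _
  have hat : RegImm.IsRegularImmersionAt RegImm.Kind.quasi i z := by
    rw [Groth.L14.RegImmStalk.regularAt_iff_stalk i _ z]
    have key : ∀ (y : X), y = x → ∀ (U : X.affineOpens) (hyU : y ∈ U.1), CInt.IsRegularIdeal
        ((RingHom.ker (i.app U.1).hom).map (X.presheaf.germ U.1 y hyU).hom) := by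
      intro y hy U hyU
      subst hy
      rw [hker U hyU]
      haveI : IsRegularLocalRing (X.presheaf.stalk y ⧸ maximalIdeal (X.presheaf.stalk y)) :=
        IsRegularLocalRing.of_ringEquiv (RingEquiv.refl (ResidueField (X.presheaf.stalk y)))
      exact (Groth.Agent.S5033.result _ _).mp hreg
    obtain ⟨U, hU, hzU, -⟩ :=
      exists_isAffineOpen_mem_and_subset (x := i z) (U := (⊤ : X.Opens)) trivial
    rw [Groth.L14.RegImmStalk.ker_stalkMap i hU inferInstance z hzU]
    exact key (i z) hz ⟨U, hU⟩ hzU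
  obtain ⟨U, hzU, -, rs, hrs, hk⟩ := hat
  have hxU : x ∈ U.1 := hz ▸ hzU
  letI : Algebra Γ(X, U.1) (X.presheaf.stalk x) := (X.presheaf.germ U.1 x hxU).hom.toAlgebra
  haveI := U.2.isLocalization_stalk ⟨x, hxU⟩
  haveI : IsNoetherianRing Γ(X, U.1) := IsLocallyNoetherian.component_noetherian U
  have hI : I.ideal U = Ideal.ofList rs := by
    rw [← hk]; exact (Scheme.IdealSheafData.ker_subschemeι_app I U).symm
  have hle : Ideal.ofList rs ≤ (U.2.primeIdealOf ⟨x, hxU⟩).asIdeal := (hI.symm.trans (ideal_ptI hx U hxU)).le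
  have hw := Groth.L14.RegImmStalk.isWeaklyRegular_of_kind _ hrs _ hle (X.presheaf.stalk x)
  have hgen : Ideal.ofList (rs.map (algebraMap Γ(X, U.1) (X.presheaf.stalk x))) =
      maximalIdeal (X.presheaf.stalk x) := by
    rw [← Ideal.map_ofList, ← hI, ideal_ptI hx U hxU]
    exact IsLocalization.AtPrime.map_eq_maximalIdeal (U.2.primeIdealOf ⟨x, hxU⟩).asIdeal _
  have hlen : rs.length = n := by
    have hr : IsRegular (X.presheaf.stalk x) (rs.map (algebraMap Γ(X, U.1) (X.presheaf.stalk x))) :=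
      ⟨hw, fun e => (maximalIdeal.isMaximal (X.presheaf.stalk x)).ne_top (by
        rw [smul_eq_mul, Ideal.mul_top, hgen] at e; exact e.symm)⟩
    have h1 := ringKrullDim_add_length_eq_ringKrullDim_of_isRegular _ hr
    rw [hgen, show ringKrullDim (X.presheaf.stalk x ⧸ maximalIdeal (X.presheaf.stalk x)) = 0 from
      ringKrullDim_eq_zero_of_field (ResidueField (X.presheaf.stalk x)), zero_add, List.length_map, hd] at h1
    exact_mod_cast h1
  refine ⟨U, rs.get ∘ Fin.cast hlen.symm, hxU, ?_, ?_⟩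
  · have hq : CAlgX.IsQuasiRegular rs.get := hrs
    exact Groth.L03.RegImmFlat.isQuasiRegular_cast hlen.symm hq
  · rw [hI, sI]
    refine congrArg Ideal.span (Set.ext fun a => ?_)
    show a ∈ rs ↔ _
    constructor
    · intro ha
      obtain ⟨j, rfl⟩ := List.mem_iff_get.1 ha
      exact ⟨Fin.cast hlen j, rfl⟩
    · rintro ⟨j, rfl⟩
      exact List.get_mem rs _

/-- A chart at a point of a finite centre, in a given open, meeting the centre only there. -/
theorem exists_point_chart [IsLocallyNoetherian X] {Z : Set X} (hZ : IsClosed Z) (hfin : Z.Finite)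
    (hpt : ∀ y ∈ Z, IsClosed ({y} : Set X)) {x : X} (hx : x ∈ Z) (n : ℕ)
    (hreg : IsRegularLocalRing (X.presheaf.stalk x)) (hd : ringKrullDim (X.presheaf.stalk x) = (n : ℕ))
    {R₀ : X.Opens} (hxR : x ∈ R₀) :
    ∃ (W : X.affineOpens) (f : Fin n → Γ(X, W.1)), x ∈ W.1 ∧ W.1 ≤ R₀ ∧ CAlgX.IsQuasiRegular f ∧
      (Scheme.IdealSheafData.vanishingIdeal ⟨Z, hZ⟩).ideal W = sI f ∧ (ptI (hpt x hx)).ideal W = sI f ∧
      ∀ y ∈ Z, y ≠ x → y ∉ W.1 := by
  obtain ⟨U, f, hxU, hf, hI⟩ := exists_tuple (hpt x hx) n hreg hd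
  have hcl : IsClosed (Z \ {x}) := by
    rw [← Set.biUnion_of_singleton (Z \ {x})]
    exact (hfin.subset Set.sdiff_subset).isClosed_biUnion fun y hy => hpt y hy.1
  let R : X.Opens := R₀ ⊓ ⟨(Z \ {x})ᶜ, hcl.isOpen_compl⟩
  obtain ⟨g, hgle, hxg⟩ := U.2.exists_basicOpen_le (V := R) ⟨x, hxR, fun h => h.2 rfl⟩ hxU
  haveI := U.2.isLocalization_basicOpen g
  let W : X.affineOpens := X.affineBasicOpen g
  have h1 : (ptI (hpt x hx)).ideal W = sI fun i => algebraMap Γ(X, U.1) Γ(X, X.basicOpen g) (f i) := by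
    rw [← (ptI (hpt x hx)).map_ideal_basicOpen U g, hI]
    show Ideal.map _ (Ideal.span (Set.range f)) = Ideal.span _
    rw [Ideal.map_span, ← Set.range_comp]
    rfl
  refine ⟨W, _, hxg, hgle.trans inf_le_left,
    Groth.L03.QuasiRegularBC.localization (Submonoid.powers g) Γ(X, X.basicOpen g) f hf, ?_, h1,
    fun y hy hne hyW => (hgle hyW).2 ⟨hy, hne⟩⟩
  refine Eq.trans ?_ h1
  show PrimeSpectrum.vanishingIdeal (W.2.fromSpec ⁻¹' Z) = PrimeSpectrum.vanishingIdeal (W.2.fromSpec ⁻¹' {x})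
  congr 1
  ext p
  simp only [Set.mem_preimage, Set.mem_singleton_iff]
  refine ⟨fun h => by_contra fun hne => ?_, fun h => h ▸ hx⟩
  exact (hgle (W.2.opensRange_fromSpec.le ⟨p, rfl⟩)).2 ⟨h, hne⟩

end Groth.L03.BlowAcyc
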