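import Groth.Agent.L03.BlowAcyc.OnePoint
import Groth.Agent.L03.BlowPt.PtDeg
import Groth.Agent.L22.Reg.PnGen
import Groth.Agent.L22.Inter.Point
import Groth.Agent.L07.PrinParts.GrBaseChange
import Groth.Agent.L21.CurveDual.Trace
import Groth.Agent.L03.PlanePoints
import Groth.Agent.L03.ShStab.QuadricCoh

/-!
# The ideal of a point of projective space is generated by few linear forms, also after blowing it up
-/

set_option autoImplicit false
set_option linter.style.haveILetI false
set_option backward.isDefEq.respectTransparency false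

universe u

open CategoryTheory CategoryTheory.Limits AlgebraicGeometry TopologicalSpace Opposite
open Groth.L03.BlowPt (ptI)
open Groth.L16.CohLinear (hmap hmap_comp exact_hmap_hmap exact_hmap_delta)
open Groth.L22.Reg (O' tw' sm Generates Regular)
open Groth.L00.Tensor (tensorIso tensorRightF tensorUnitLeft tensorUnitRight tensorAssoc)

noncomputable section

namespace Groth.L03.BlowAcyc

/-- Jointly epimorphic families stay so under functors preserving sums. -/
theorem jointly_epi_map {C D : Type*} [Category C] [Category D] (F : C ⥤ D) {b : ℕ} {A : C} {B : C}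
    [HasCoproduct fun _ : Fin b => A] [HasCoproduct fun _ : Fin b => F.obj A]
    [PreservesColimit (Discrete.functor fun _ : Fin b => A) F] [F.PreservesEpimorphisms]
    (φ : Fin b → (A ⟶ B)) [Epi (Sigma.desc φ)] : Epi (Sigma.desc fun j => F.map (φ j)) := by
  have h : Sigma.desc (fun j => F.map (φ j)) = sigmaComparison F (fun _ : Fin b => A) ≫ F.map (Sigma.desc φ) :=
    Sigma.hom_ext _ _ fun j => by simp [← Functor.map_comp]
  rw [h]
  infer_instance

/-- A family of maps between free modules of rank one hitting a generator contains a bijection. -/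
theorem exists_bijective_of_sum {R M N : Type*} [CommRing R] [IsLocalRing R] [AddCommGroup M] [Module R M]
    [AddCommGroup N] [Module R N] (g : R ≃ₗ[R] M) (h : R ≃ₗ[R] N) {b : ℕ} (f : Fin b → (M →ₗ[R] N))
    (v : Fin b → M) (hsum : ∑ j, f j (v j) = h 1) : ∃ j, Function.Bijective (f j) := by
  let a : Fin b → R := fun j => h.symm (f j (g 1))
  have hf : ∀ j (t : R), f j (g t) = h (t * a j) := fun j t => by
    have ht : g t = t • g 1 := by rw [← map_smul, smul_eq_mul, mul_one]
    rw [← smul_eq_mul, map_smul, ht, map_smul, h.apply_symm_apply]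
  have h1 : ∑ j, g.symm (v j) * a j = 1 := h.injective <| by
    rw [map_sum, ← hsum]
    exact Finset.sum_congr rfl fun j _ => by rw [← hf, g.apply_symm_apply]
  by_contra hno
  push Not at hno
  have hm : ∑ j, g.symm (v j) * a j ∈ IsLocalRing.maximalIdeal R :=
    Ideal.sum_mem _ fun j _ => Ideal.mul_mem_left _ _ fun hu => hno j (by
      obtain ⟨u, hu⟩ := hu
      have : (f j : M → N) = h ∘ (Units.mulRight u) ∘ g.symm := by
        funext y
        obtain ⟨t, rfl⟩ := g.surjective y
        simp [hf, hu]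
      rw [this]
      exact h.bijective.comp ((Units.mulRight u).bijective.comp g.symm.bijective))
  rw [h1] at hm
  exact (IsLocalRing.maximalIdeal.isMaximal R).ne_top ((Ideal.eq_top_iff_one _).2 hm)

/-- Maps from an invertible module to `O` which are jointly epimorphic have no common zero. -/
theorem generates_of_epi {X : Scheme.{u}} {L : X.Modules} (hL : PicF.IsInvertible L) {b : ℕ}
    (σ : Fin b → (L ⟶ Coh.structureModule X)) [Epi (Sigma.desc σ)] : Generates (List.ofFn σ) := by
  intro x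
  obtain ⟨pr, hid, -⟩ := Groth.L03.ShStab.QuadricCoh.id_sigma (fun _ : Fin b => L)
  obtain ⟨g⟩ := Groth.L03.Euler.exists_stalk_equiv hL x
  let Fx := Groth.L00.Stk.F X x
  let h : X.presheaf.stalk x ≃ₗ[X.presheaf.stalk x] Fx.obj (Coh.structureModule X) :=
    LinearEquiv.ofBijective
      (LinearMap.toSpanSingleton _ (Fx.obj (Coh.structureModule X)) (Groth.L21.RR.one X x))
      (Groth.L21.RR.bijective_smul_one x)
  obtain ⟨v, hv⟩ := (Groth.L21.Mod.epi_iff_stalk_surjective (Sigma.desc σ)).1 inferInstance x (h 1)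
  have h1 : Sigma.desc σ = ∑ j, pr j ≫ σ j :=
    calc Sigma.desc σ = (∑ j, pr j ≫ Sigma.ι (fun _ : Fin b => L) j) ≫ Sigma.desc σ :=
          ((congrArg (· ≫ Sigma.desc σ) hid).symm.trans (Category.id_comp _)).symm
      _ = ∑ j, (pr j ≫ Sigma.ι (fun _ : Fin b => L) j) ≫ Sigma.desc σ := Preadditive.sum_comp _ _ _
      _ = ∑ j, pr j ≫ σ j := Finset.sum_congr rfl fun j _ => by rw [Category.assoc, Sigma.ι_desc]
  have hsum : ∑ j, (Fx.map (σ j)).hom ((Fx.map (pr j)).hom v) = h 1 := by
    refine Eq.trans ?_ hv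
    show _ = (Fx.map (Sigma.desc σ)).hom v
    rw [h1, Functor.map_sum]
    rw [ModuleCat.hom_sum, LinearMap.sum_apply]
    exact Finset.sum_congr rfl fun j _ => by rw [Functor.map_comp]; rfl
  obtain ⟨j, hj⟩ := exists_bijective_of_sum g h (fun j => (Fx.map (σ j)).hom) _ hsum
  exact ⟨σ j, List.mem_ofFn.2 ⟨j, rfl⟩, hj⟩

section Pn

variable {k : Type u} [Field k] [IsAlgClosed k] {m : ℕ} {p : ↥(CohB1.ProjSpace (m + 1) k)}
  (hp : IsClosed ({p} : Set ↥(CohB1.ProjSpace (m + 1) k)))

theorem support_quot_le :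
    topologicalKrullDim (CohB1.support (ClSub.quotMod (ptI hp))) ≤ 0 := by
  have hs : CohB1.support (ClSub.quotMod (ptI hp)) ⊆ {p} :=
    (Groth.L22.Inter.support_quotMod_subset _).trans (le_of_eq (by simp [ptI]))
  haveI : Subsingleton (CohB1.support (ClSub.quotMod (ptI hp))) :=
    ⟨fun a b => Subtype.ext ((hs a.2).trans (hs b.2).symm)⟩
  exact topologicalKrullDim_zero_of_discreteTopology _

omit [IsAlgClosed k] in
theorem toSubscheme_one_ne :
    (ClSub.toSubscheme (ptI hp)).app ⊤ (Groth.L21.RR.oneSec (CohB1.ProjSpace (m + 1) k)) ≠ 0 := by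
  intro h
  have h1 : (ptI hp).subschemeι.app ⊤ 1 = 0 := h
  rw [map_one] at h1
  obtain ⟨z⟩ : Nonempty (ptI hp).subscheme := by
    have hm : p ∈ Set.range (ptI hp).subschemeι := by
      rw [Scheme.IdealSheafData.range_subschemeι]; simp [ptI]
    exact ⟨hm.choose⟩
  haveI : Nonempty ((⊤ : (ptI hp).subscheme.Opens) : Scheme.{u}) := ⟨⟨z, trivial⟩⟩
  exact one_ne_zero (α := Γ((ptI hp).subscheme, ⊤)) h1

theorem subsingleton_H1_ideal (hm : 1 ≤ m) :
    Subsingleton (Coh.HH (CohB1.ProjSpace (m + 1) k) (ClSub.idealMod (ptI hp)) 1) := by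
  haveI := Groth.L22.Reg.isProper_over_proj (k := k) (n := m + 1)
  haveI : IsLocallyNoetherian (CohB1.ProjSpace (m + 1) k) :=
    LocallyOfFiniteType.isLocallyNoetherian (CohB1.ProjSpace.toSpec (m + 1) k)
  let Y := CohB1.ProjSpace (m + 1) k
  have hS := Groth.L21.RR.shortExact_idealSeq (ptI hp)
  haveI : Subsingleton (Coh.HH Y (Coh.structureModule Y) 1) := by
    obtain ⟨z⟩ := Groth.L22.Reg.nonempty_O_zero (m + 1) k
    exact Groth.L22.Reg.subsingleton_iso z 1
      (Groth.L16.ProjSpace.subsingleton_HH_twist (m + 1) k 0 1 (by omega) (by omega))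
  have hfr : Module.finrank k (Coh.HH Y (ClSub.quotMod (ptI hp)) 0) = 1 := by
    have h1 : Curv2.euler k Y (ClSub.quotMod (ptI hp)) = (Module.finrank k (Coh.HH Y (ClSub.quotMod (ptI hp)) 0) : ℤ) :=
      Groth.L17.Strat.euler_eq_finrank fun i hi =>
        Groth.L22.Big.subsingleton_HH_of_support k (d := 0) (Groth.L21.RR.isCoh_quotMod _) (support_quot_le hp) (by omega)
    have h2 := (Groth.L03.BlowPt.ptDeg_eq_one hp k)
    simp only [Groth.L03.BlowPt.ptDeg] at h2
    rw [h1] at h2
    exact_mod_cast h2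
  have hsurj : Function.Surjective (hmap (ClSub.toSubscheme (ptI hp)) 0) := by
    intro y
    let w := hmap (ClSub.toSubscheme (ptI hp)) 0 ((Groth.L21.RR.e0 _).symm (Groth.L21.RR.oneSec Y))
    have hw : w ≠ 0 := fun h => toSubscheme_one_ne hp (by
      have := congrArg (Groth.L21.RR.e0 _) h
      rwa [Groth.L21.RR.e0_hmap, AddEquiv.apply_symm_apply, map_zero] at this)
    obtain ⟨c, hc⟩ := (finrank_eq_one_iff_of_nonzero' w hw).1 hfr y
    refine ⟨c • (Groth.L21.RR.e0 _).symm (Groth.L21.RR.oneSec Y), ?_⟩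
    rw [← hc]
    exact map_smul (Groth.L21.RR.hk k (ClSub.toSubscheme (ptI hp)) 0) c _
  refine subsingleton_of_forall_eq 0 fun z => ?_
  obtain ⟨q, rfl⟩ := (Groth.L16.CohLinear.exact_delta_hmap hS 0 z).1 (Subsingleton.elim (α := Coh.HH Y (Coh.structureModule Y) 1) _ _)
  obtain ⟨t, rfl⟩ := hsurj q
  exact (exact_hmap_delta hS 0 _).2 ⟨t, rfl⟩

theorem regular_ideal (hm : 1 ≤ m) : Regular (ClSub.idealMod (ptI hp)) 1 := by
  haveI := Groth.L22.Reg.isProper_over_proj (k := k) (n := m + 1)
  haveI : IsLocallyNoetherian (CohB1.ProjSpace (m + 1) k) :=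
    LocallyOfFiniteType.isLocallyNoetherian (CohB1.ProjSpace.toSpec (m + 1) k)
  intro q hq
  rcases Nat.eq_or_lt_of_le hq with rfl | hq2
  · obtain ⟨e⟩ := Groth.L22.Reg.nonempty_tw_zero (ClSub.idealMod (ptI hp))
    exact Groth.L22.Reg.subsingleton_iso (e.symm ≪≫ eqToIso (by norm_num)) 1 (subsingleton_H1_ideal hp hm)
  · obtain ⟨r, rfl⟩ : ∃ r, q = r + 1 := ⟨q - 1, by omega⟩
    refine Groth.L22.Reg.subsingleton_of_exact
      (Groth.L16.CohLinear.exact_delta_hmap
        (Groth.L22.Reg.shortExact_tw (Groth.L21.RR.shortExact_idealSeq (ptI hp)) (1 - ((r + 1 : ℕ) : ℤ))) r)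
      (Groth.L22.Reg.subsingleton_tw_of_support_le_zero (Groth.L21.RR.isCoh_quotMod _) (support_quot_le hp) _ (by omega))
      ?_ (map_zero _)
    exact Groth.L22.Reg.subsingleton_iso (tensorUnitLeft _).symm _
      (Groth.L16.ProjSpace.subsingleton_HH_twist (m + 1) k _ (r + 1) (by omega) (by omega))

/-- The ideal of a point is generated by at most `dim` linear forms. -/
theorem exists_forms_point (hm : 1 ≤ m) :
    ∃ (b : ℕ) (ψ : Fin b → (O' (m + 1) k (-1) ⟶ ClSub.idealMod (ptI hp))), b ≤ m + 1 ∧ Epi (Sigma.desc ψ) := by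
  classical
  let Y := CohB1.ProjSpace (m + 1) k
  haveI := Groth.L22.Reg.isProper_over_proj (k := k) (n := m + 1)
  haveI : IsLocallyNoetherian Y := LocallyOfFiniteType.isLocallyNoetherian (CohB1.ProjSpace.toSpec (m + 1) k)
  let G := tw' (ClSub.idealMod (ptI hp)) 1
  have hcoh : Coh.IsCoh (ClSub.idealMod (ptI hp)) :=
    (Groth.L16.CohKernel.isCoh_kernel_cokernel (Groth.L16.Rees.RelVanish.isCoh_structureModule Y) (Groth.L21.RR.isCoh_quotMod _)
      (ClSub.toSubscheme (ptI hp))).1
  obtain ⟨ι, q, hq⟩ := (regular_ideal hp hm).isGloballyGenerated hcoh (le_refl 1)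
  -- the space of sections
  have hfin : Module.Finite k (Coh.HH Y (O' (m + 1) k 1) 0) ∧
      Module.finrank k (Coh.HH Y (O' (m + 1) k 1) 0) = m + 2 := by
    obtain ⟨e⟩ := Groth.L16.ProjSpace.nonempty_H0_twist_linearEquiv (m + 1) k 1
    haveI := (Groth.L03.PlanePoints.finrank_homogeneous (F := k) (m + 1) 1).1
    refine ⟨Module.Finite.equiv e.symm, e.finrank_eq.trans ?_⟩
    rw [(Groth.L03.PlanePoints.finrank_homogeneous (F := k) (m + 1) 1).2, add_comm 1 (m + 1),
      Nat.choose_succ_self_right]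
  obtain ⟨hfin, hfr⟩ := hfin
  haveI := hfin
  let Φ : ∀ M : Y.Modules, (Coh.structureModule Y ⟶ M) →ₗ[k] Coh.HH Y M 0 := fun M =>
    { toFun := fun g => hmap g 0 ((Groth.L21.RR.e0 _).symm (Groth.L21.RR.oneSec Y))
      map_add' := fun g g' => by rw [Groth.L21.RR.hmap_add]; try rfl
      map_smul' := fun c g => by
        rw [RingHom.id_apply, ← Groth.L21.CurveDual.hmap_smul_id k M c, ← hmap_comp, Linear.comp_smul,
          Category.comp_id] }
  have hΦ : ∀ M, Function.Injective (Φ M) := fun M g g' h => Groth.L21.RR.hom_ext_one (by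
    have := congrArg (Groth.L21.RR.e0 M) h
    simpa [Φ, Groth.L21.RR.e0_hmap] using this)
  haveI : Module.Finite k (Coh.structureModule Y ⟶ O' (m + 1) k 1) :=
    Module.Finite.of_injective _ (hΦ _)
  let f' : G ⟶ O' (m + 1) k 1 :=
    (tensorRightF (O' (m + 1) k 1)).map (ClSub.idealModι (ptI hp)) ≫ (tensorUnitLeft _).hom
  have hS := Groth.L22.Reg.shortExact_tw (Groth.L21.RR.shortExact_idealSeq (ptI hp)) 1
  haveI : Mono f' := by
    haveI : Mono ((tensorRightF (O' (m + 1) k 1)).map (ClSub.idealModι (ptI hp))) := hS.mono_f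
    exact mono_comp _ _
  let R : (Coh.structureModule Y ⟶ G) →ₗ[k] (Coh.structureModule Y ⟶ O' (m + 1) k 1) := Linear.rightComp k _ f'
  have hR : Function.Injective R := fun g g' h => (cancel_mono f').1 h
  haveI : Module.Finite k (Coh.structureModule Y ⟶ G) := Module.Finite.of_injective _ hR
  have hlt : Module.finrank k (Coh.structureModule Y ⟶ G) ≤ m + 1 := by
    have hle := LinearMap.finrank_le_finrank_of_injective (hΦ (O' (m + 1) k 1))
    rw [hfr] at hle
    have hne : LinearMap.range R ≠ ⊤ := fun htop => by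
      -- every section of `O(1)` would vanish at the point
      have hgg : Curv2.IsGloballyGenerated (O' (m + 1) k 1) := by
        have := (Groth.L22.Reg.regular_sigma_twist (n := m + 1) (R := k) 1 (a := 0) (m := 0) le_rfl)
        have h1 : Regular (Coh.structureModule Y) 1 := fun q hq =>
          Groth.L22.Reg.subsingleton_iso (tensorUnitLeft _).symm _
            (Groth.L16.ProjSpace.subsingleton_HH_twist (m + 1) k _ q (by omega) (by omega))
        exact Groth.L18.Ample.isGloballyGenerated_of_iso (tensorUnitLeft _)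
          (h1.isGloballyGenerated (Groth.L16.Rees.RelVanish.isCoh_structureModule Y) (le_refl 1))
      obtain ⟨ι', q', hq'⟩ := hgg
      let g' : O' (m + 1) k 1 ⟶ (tensorRightF (O' (m + 1) k 1)).obj (ClSub.quotMod (ptI hp)) :=
        (tensorUnitLeft _).inv ≫ (tensorRightF (O' (m + 1) k 1)).map (ClSub.toSubscheme (ptI hp))
      have hfg : f' ≫ g' = 0 := by
        simp only [f', g', Category.assoc, Iso.hom_inv_id_assoc]
        exact ((Groth.L21.RR.idealSeq (ptI hp)).map (tensorRightF (O' (m + 1) k 1))).zero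
      haveI : Epi ((tensorRightF (O' (m + 1) k 1)).map (ClSub.toSubscheme (ptI hp))) := hS.epi_g
      have h0 : g' = 0 := by
        haveI := hq'
        rw [← cancel_epi q', comp_zero]
        refine Sigma.hom_ext _ _ fun i => ?_
        let e : Coh.structureModule Y ⟶ O' (m + 1) k 1 := Sigma.ι (fun _ : ι' => Coh.structureModule Y) i ≫ q'
        obtain ⟨g, hg⟩ := LinearMap.range_eq_top.1 htop e
        refine Eq.trans ((Category.assoc _ _ _).symm.trans ?_) comp_zero.symm
        show e ≫ g' = 0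
        rw [← hg]
        show (g ≫ f') ≫ g' = 0
        rw [Category.assoc, hfg, comp_zero]
      have hz : IsZero ((tensorRightF (O' (m + 1) k 1)).obj (ClSub.quotMod (ptI hp))) := by
        haveI : Epi g' := epi_comp _ _
        exact IsZero.of_epi_eq_zero g' h0
      refine toSubscheme_one_ne hp ?_
      have hz' : IsZero (ClSub.quotMod (ptI hp)) := by
        obtain ⟨a⟩ := Groth.L22.Reg.nonempty_tw_tw (ClSub.quotMod (ptI hp)) (show (1 : ℤ) + -1 = 0 by norm_num)
        obtain ⟨a'⟩ := Groth.L22.Reg.nonempty_tw_zero (ClSub.quotMod (ptI hp))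
        exact ((tensorRightF (O' (m + 1) k (-1))).map_isZero hz).of_iso (a ≪≫ a').symm
      rw [hz'.eq_of_tgt (ClSub.toSubscheme (ptI hp)) 0]
      rfl
    have h1 := Submodule.finrank_lt hne
    rw [LinearMap.finrank_range_of_inj hR] at h1
    omega
  let bas := Module.finBasis k (Coh.structureModule Y ⟶ G)
  haveI : Epi (Sigma.desc fun j => bas j) := Preadditive.epi_of_cancel_zero _ fun {M} g hg => by
    haveI := hq
    rw [← cancel_epi q, comp_zero]
    refine Sigma.hom_ext _ _ fun i => ?_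
    let e : Coh.structureModule Y ⟶ G := Sigma.ι (fun _ : ι => Coh.structureModule Y) i ≫ q
    refine Eq.trans ((Category.assoc _ _ _).symm.trans ?_) comp_zero.symm
    show e ≫ g = 0
    rw [← bas.sum_repr e, Preadditive.sum_comp]
    refine Finset.sum_eq_zero fun j _ => ?_
    have := congrArg (Sigma.ι (fun _ => Coh.structureModule Y) j ≫ ·) hg
    rw [Sigma.ι_desc_assoc, comp_zero] at this
    rw [Linear.smul_comp, this, smul_zero]
  obtain ⟨a⟩ := Groth.L22.Reg.nonempty_tw_tw (ClSub.idealMod (ptI hp)) (show (1 : ℤ) + -1 = 0 by norm_num)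
  obtain ⟨a'⟩ := Groth.L22.Reg.nonempty_tw_zero (ClSub.idealMod (ptI hp))
  let u := tensorUnitLeft (O' (m + 1) k (-1))
  refine ⟨_, fun j => u.inv ≫ (tensorRightF (O' (m + 1) k (-1))).map (bas j) ≫ (a ≪≫ a').hom, hlt, ?_⟩
  haveI : PreservesColimitsOfSize.{u, u} (tensorRightF (O' (m + 1) k (-1))) :=
    Groth.L00.Tensor.preservesColimits_tensorRightF _
  haveI : PreservesFiniteCoproducts (tensorRightF (O' (m + 1) k (-1))) := inferInstance
  haveI := jointly_epi_map (tensorRightF (O' (m + 1) k (-1))) (fun j => bas j)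
  refine Preadditive.epi_of_cancel_zero _ fun {M} g hg => ?_
  rw [← cancel_epi (a ≪≫ a').hom, comp_zero,
    ← cancel_epi (Sigma.desc fun j => (tensorRightF (O' (m + 1) k (-1))).map (bas j)), comp_zero]
  refine Sigma.hom_ext _ _ fun j => ?_
  rw [comp_zero, Sigma.ι_desc_assoc, ← cancel_epi u.inv, comp_zero]
  have := congrArg (Sigma.ι (fun _ => O' (m + 1) k (-1)) j ≫ ·) hg
  simpa only [Sigma.ι_desc_assoc, comp_zero, Category.assoc] using this

/-- On the blow-up, few maps `π^*O(-1) ⊗ I_E^{-1} ⟶ O` without common zero. -/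
theorem exists_generators (hm : 1 ≤ m) {X : Scheme.{u}} {π : X ⟶ CohB1.ProjSpace (m + 1) k}
    (hπ : BlowUp.IsBlowUp π (ptI hp)) {J' : X.Modules}
    (hJ : ClSub.IsInverseOf J' (ClSub.idealMod (BlowUp.exceptional π (ptI hp)))) :
    ∃ σs : List (CohB1.tensorMod (pO π (-1)) J' ⟶ Coh.structureModule X),
      σs.length ≤ m + 1 ∧ Generates σs := by
  obtain ⟨b, ψ, hb, hψ⟩ := exists_forms_point hp hm
  obtain ⟨α, -, hα, -⟩ := Groth.L07.PrinParts.exists_idealMap π (ptI hp) _
    (show BlowUp.exceptional π (ptI hp) = (ptI hp).comap π from rfl)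
  obtain ⟨eJ⟩ := hJ
  have hJi : PicF.IsInvertible J' := Groth.L13.PointBlow.isInvertible_of_isInverseOf
    ((Groth.Agent.L19.IdealInvertible.isEffCartier_iff _).2 hπ.1) ⟨eJ⟩
  haveI := hψ
  haveI : PreservesFiniteCoproducts (Scheme.Modules.pullback π) := inferInstance
  haveI := jointly_epi_map (Scheme.Modules.pullback π) ψ
  haveI := hα
  let τ : Fin b → (pO π (-1) ⟶ ClSub.idealMod (BlowUp.exceptional π (ptI hp))) := fun j =>
    (Scheme.Modules.pullback π).map (ψ j) ≫ α
  haveI : Epi (Sigma.desc τ) := by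
    have : Sigma.desc τ = Sigma.desc (fun j => (Scheme.Modules.pullback π).map (ψ j)) ≫ α :=
      Sigma.hom_ext _ _ fun j => by simp [τ]
    rw [this]
    exact epi_comp _ _
  haveI : PreservesColimitsOfSize.{u, u} (tensorRightF J') := Groth.L00.Tensor.preservesColimits_tensorRightF _
  haveI : PreservesFiniteCoproducts (tensorRightF J') := inferInstance
  haveI := jointly_epi_map (tensorRightF J') τ
  let c : CohB1.tensorMod (ClSub.idealMod (BlowUp.exceptional π (ptI hp))) J' ≅ Coh.structureModule X :=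
    Groth.L00.Tensor.tensorComm _ _ ≪≫ eJ
  haveI hepi : Epi (Sigma.desc fun j => (tensorRightF J').map (τ j) ≫ c.hom) := by
    have : Sigma.desc (fun j => (tensorRightF J').map (τ j) ≫ c.hom) =
        Sigma.desc (fun j => (tensorRightF J').map (τ j)) ≫ c.hom := Sigma.hom_ext _ _ fun j => by simp
    rw [this]
    exact epi_comp _ _
  exact ⟨List.ofFn fun j => (tensorRightF J').map (τ j) ≫ c.hom, by simpa using hb,
    @generates_of_epi _ _ (Groth.L18.GenLoc.isInvertible_tensor
      (Groth.L18.Ample.isInvertible_pullback π (Groth.L16.ProjTwist.isInvertible_twistProjSpace (m + 1) k _)) hJi) _ _ hepi⟩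

end Pn

end Groth.L03.BlowAcyc
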