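import Groth.Agent.L03.BlowAcyc.Global
import Groth.Agent.L03.BlowAcyc.ExcPart
import Groth.Agent.L03.BlowAcyc.PointChart
import Groth.Prelude.Def_FGA

/-!
# Blow-ups in finitely many regular closed points: twists by the exceptional divisors
-/

set_option autoImplicit false
set_option linter.style.haveILetI false
set_option backward.isDefEq.respectTransparency false

universe u

open CategoryTheory CategoryTheory.Limits AlgebraicGeometry TopologicalSpace
open Groth.L11.BlowSmooth (sI)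
open Groth.L13.BU (idealOf)
open Groth.L13.BlowP1 (exIdeal exι)
open Groth.L13.PointBlow (pre preι opensRange_preι)
open Groth.L03.BlowPt (ptI)
open Groth.L00.Tensor (tensorIso tensorComm tensorAssoc tensorUnitLeft tensorUnitRight)

noncomputable section

namespace Groth.L03.BlowAcyc

variable {X Y : Scheme.{u}}

/-- Charts at the points of a finite centre. -/
structure PointCharts {s : ℕ} (Pt : Fin s → Y) (hPc : ∀ t, IsClosed ({Pt t} : Set Y))
    (I : Y.IdealSheafData) (n : ℕ) where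
  U : Fin s → Y.affineOpens
  f : ∀ t, Fin (n + 1) → Γ(Y, (U t).1)
  mem : ∀ t, Pt t ∈ (U t).1
  qreg : ∀ t, CAlgX.IsQuasiRegular (f t)
  ideal : ∀ t, I.ideal (U t) = sI (f t)
  pt : ∀ t, (ptI (hPc t)).ideal (U t) = sI (f t)
  sep : ∀ t t', t ≠ t' → Pt t' ∉ (U t).1
  supp : ∀ y, y ∈ I.support ↔ ∃ t, y = Pt t

theorem nonempty_pointCharts [IsLocallyNoetherian Y] {s : ℕ} (Pt : Fin s → Y) (hP : Function.Injective Pt)
    (hPc : ∀ t, IsClosed ({Pt t} : Set Y)) (hZ : IsClosed (Set.range Pt)) (n : ℕ)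
    (hreg : ∀ t, IsRegularLocalRing (Y.presheaf.stalk (Pt t)))
    (hdim : ∀ t, ringKrullDim (Y.presheaf.stalk (Pt t)) = ((n + 1 : ℕ) : WithBot ℕ∞))
    (R : Fin s → Y.Opens) (hR : ∀ t, Pt t ∈ R t) :
    ∃ D : PointCharts Pt hPc (Scheme.IdealSheafData.vanishingIdeal ⟨Set.range Pt, hZ⟩) n,
      ∀ t, (D.U t).1 ≤ R t := by
  have key : ∀ t, ∃ (W : Y.affineOpens) (f : Fin (n + 1) → Γ(Y, W.1)), Pt t ∈ W.1 ∧ CAlgX.IsQuasiRegular f ∧
      (Scheme.IdealSheafData.vanishingIdeal ⟨Set.range Pt, hZ⟩).ideal W = sI f ∧ (ptI (hPc t)).ideal W = sI f ∧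
      (∀ t', t ≠ t' → Pt t' ∉ W.1) ∧ W.1 ≤ R t := by
    intro t
    obtain ⟨W, f, hW, hWR, hf, hI, hI', hsep⟩ := exists_point_chart hZ (Set.finite_range Pt)
      (fun y hy => by obtain ⟨t', rfl⟩ := hy; exact hPc t') (Set.mem_range_self t) (n + 1) (hreg t) (hdim t)
      (R₀ := R t) (hR t)
    exact ⟨W, f, hW, hf, hI, hI', fun t' hne => hsep _ ⟨t', rfl⟩ fun h => hne (hP h).symm, hWR⟩
  choose U f hmem hf hI hI' hsep hUR using key
  exact ⟨⟨U, f, hmem, hf, hI, hI', hsep, fun y => by simp [← SetLike.mem_coe, eq_comm]⟩, hUR⟩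

variable {s : ℕ} {Pt : Fin s → Y} {hPc : ∀ t, IsClosed ({Pt t} : Set Y)} {I : Y.IdealSheafData} {n : ℕ}

theorem PointCharts.locQR (D : PointCharts Pt hPc I n) : LocQR I n := by
  intro y hy
  obtain ⟨t, rfl⟩ := (D.supp y).1 hy
  exact ⟨D.U t, n, D.f t, D.mem t, le_rfl, D.ideal t, D.qreg t⟩

theorem PointCharts.dense [IsIntegral Y] (D : PointCharts Pt hPc I n) (hη : ∀ t, genericPoint Y ≠ Pt t) :
    Dense ((I.support : Set Y)ᶜ) := by
  have h : genericPoint Y ∈ ((I.support : Set Y)ᶜ) := fun h => by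
    obtain ⟨t, ht⟩ := (D.supp _).1 h
    exact hη t ht
  exact Dense.mono (Set.singleton_subset_iff.2 h)
    (dense_iff_closure_eq.2 (genericPoint_spec Y))

variable (hPc) in
/-- The exceptional divisor over one point. -/
abbrev ptExc (σ : X ⟶ Y) (t : Fin s) : X.IdealSheafData := (ptI (hPc t)).comap σ

variable {σ : X ⟶ Y}

theorem eq_pt_of_mem_support {t : Fin s} {z : X} (hz : z ∈ ((ptExc hPc σ t).support : Set X)) :
    σ z = Pt t := by
  have h : σ z ∈ ((ptI (hPc t)).support : Set Y) := (Scheme.IdealSheafData.support_comap _ σ).le hz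
  simpa [ptI] using h

theorem isEffCartier_ptExc (hb : BlowUp.IsBlowUp σ I) (D : PointCharts Pt hPc I n) (t : Fin s) :
    BlowUp.IsEffCartierIdeal (ptExc hPc σ t) := by
  intro x
  by_cases hx : σ x = Pt t
  · obtain ⟨V₀, hxV₀, g, hg, hgI⟩ := hb.1 x
    obtain ⟨r, hr, hxr⟩ := V₀.2.exists_basicOpen_le (V := σ ⁻¹ᵁ (D.U t).1)
      ⟨x, show σ x ∈ (D.U t).1 from hx ▸ D.mem t⟩ hxV₀
    haveI := V₀.2.isLocalization_basicOpen r
    refine ⟨X.affineBasicOpen r, hxr, (show Γ(X, (X.affineBasicOpen r).1) from algebraMap Γ(X, V₀.1) Γ(X, X.basicOpen r) g),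
      IsLocalization.map_nonZeroDivisors_le (Submonoid.powers r) Γ(X, X.basicOpen r) ⟨g, hg, rfl⟩, ?_⟩
    rw [show (ptExc hPc σ t).ideal (X.affineBasicOpen r) = (I.comap σ).ideal (X.affineBasicOpen r) by
      rw [Groth.L22.Ideals.comap_ideal σ _ (D.U t) (X.affineBasicOpen r) hr,
        Groth.L22.Ideals.comap_ideal σ _ (D.U t) (X.affineBasicOpen r) hr, D.pt, D.ideal],
      ← (I.comap σ).map_ideal_basicOpen V₀ r, hgI, Ideal.map_span, Set.image_singleton]
    rfl
  · let C : X.Opens := ⟨((ptExc hPc σ t).support : Set X)ᶜ, (ptExc hPc σ t).support.isClosed.isOpen_compl⟩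
    obtain ⟨V, hV, hxV, hVC⟩ := exists_isAffineOpen_mem_and_subset (x := x) (U := C)
      (fun h => hx (eq_pt_of_mem_support h))
    refine ⟨⟨V, hV⟩, hxV, 1, one_mem _, ?_⟩
    rw [Ideal.span_singleton_one, Ideal.eq_top_iff_one]
    by_contra h1
    obtain ⟨m, hm, hle⟩ := Ideal.exists_le_maximal ((ptExc hPc σ t).ideal ⟨V, hV⟩) (fun e => h1 (by rw [e]; trivial))
    let p : Spec Γ(X, V) := ⟨m, hm.isPrime⟩
    refine hVC (hV.range_fromSpec.le ⟨p, rfl⟩) ?_
    have h2 : hV.fromSpec p ∈ X.zeroLocus (U := V) ((ptExc hPc σ t).ideal ⟨V, hV⟩) ∩ V := by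
      refine ⟨?_, hV.range_fromSpec.le ⟨p, rfl⟩⟩
      have h3 : p ∈ hV.fromSpec ⁻¹' X.zeroLocus (U := V) ((ptExc hPc σ t).ideal ⟨V, hV⟩) := by
        rw [hV.fromSpec_preimage_zeroLocus]
        exact hle
      exact h3
    rw [← (ptExc hPc σ t).coe_support_inter ⟨V, hV⟩] at h2
    exact h2.1

theorem isInvertible_ptExc (hb : BlowUp.IsBlowUp σ I) (D : PointCharts Pt hPc I n) (t : Fin s) :
    PicF.IsInvertible (ClSub.idealMod (ptExc hPc σ t)) :=
  (Groth.Agent.L19.IdealInvertible.isEffCartier_iff _).2 (isEffCartier_ptExc hb D t)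

/-- Near a point of the centre the module looks like a power of the exceptional ideal. -/
def LooksPow (D : PointCharts Pt hPc I n) (σ : X ⟶ Y) (N : X.Modules) : Prop :=
  PicF.IsInvertible N ∧ ∀ t, ∃ e : ℕ, Nonempty ((Scheme.Modules.pullback (preι σ (D.U t))).obj N ≅
    CohB1.tensorPow (L (D.f t) (pullback.fst (D.U t).2.fromSpec σ)) e)

theorem looksPow_step (hb : BlowUp.IsBlowUp σ I) (D : PointCharts Pt hPc I n) {N : X.Modules}
    (hN : LooksPow D σ N) (t : Fin s) :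
    LooksPow D σ (CohB1.tensorMod (ClSub.idealMod (ptExc hPc σ t)) N) := by
  refine ⟨Groth.L18.GenLoc.isInvertible_tensor (isInvertible_ptExc hb D t) hN.1, fun t' => ?_⟩
  obtain ⟨e, ⟨i⟩⟩ := hN.2 t'
  let j := preι σ (D.U t')
  by_cases h : t' = t
  · subst h
    obtain ⟨g⟩ := nonempty_idealMod_pre (σ := σ) (I := ptI (hPc t')) (D.U t') (D.pt t')
    exact ⟨e + 1, ⟨(Groth.L29.DC.PullTensor.pullTensor j _ _).symm ≪≫ tensorIso g i ≪≫ tensorComm _ _⟩⟩
  · refine ⟨e, ?_⟩
    obtain ⟨g⟩ := Groth.L13.PairBlow.nonempty_restrict_idealMod j (ptExc hPc σ t)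
    obtain ⟨o⟩ := Groth.L13.PointBlow.idealMod_one (X := pre σ (D.U t'))
    have htop : (ptExc hPc σ t).comap j = ⊤ := by
      refine Groth.L22.Ideals.comap_eq_top _ j fun z hz => D.sep t' t h ?_
      rw [← eq_pt_of_mem_support hz]
      exact (opensRange_preι σ (D.U t')).le ⟨z, rfl⟩
    rw [htop, ← Scheme.IdealSheafData.one_eq_top] at g
    exact ⟨(Groth.L29.DC.PullTensor.pullTensor j _ _).symm ≪≫
      tensorIso (((Scheme.Modules.restrictFunctorIsoPullback j).app _).symm ≪≫ g ≪≫ o) i ≪≫ tensorUnitLeft _⟩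

theorem subsingleton_HH_ptExc_part (hb : BlowUp.IsBlowUp σ I) (D : PointCharts Pt hPc I n) {N : X.Modules}
    (hN : LooksPow D σ N) (t : Fin s) (q : ℕ) (hq : 0 < q) :
    Subsingleton (Coh.HH X ((Scheme.Modules.pushforward (ptExc hPc σ t).subschemeι).obj
      ((Scheme.Modules.pullback (ptExc hPc σ t).subschemeι).obj N)) q) := by
  let E := ptExc hPc σ t
  let j := preι σ (D.U t)
  let p := pullback.fst (D.U t).2.fromSpec σ
  have hC : exIdeal (D.f t) p = E.comap j := exIdeal_pre (σ := σ) (I := ptI (hPc t)) (D.U t) (D.pt t)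
  obtain ⟨e, ⟨i⟩⟩ := hN.2 t
  have hvan := subsingleton_HH_exc_pow (isBlowUp_pre hb (D.U t) (D.ideal t)) (D.qreg t) e q hq
  obtain ⟨a⟩ := Groth.L17.nonempty_HH_push_of_isClosedImmersion (exι (D.f t) p)
    ((Scheme.Modules.pullback (exι (D.f t) p)).obj (CohB1.tensorPow (L (D.f t) p) e)) q
  have hC0 := @Equiv.subsingleton _ _ a.toEquiv hvan
  refine Groth.L14.LocHilbLift.subsingleton_HH_push E.subschemeι _ q ?_
  suffices key : ∀ (C : (pre σ (D.U t)).IdealSheafData), C = E.comap j →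
      Subsingleton (Coh.HH C.subscheme ((Scheme.Modules.pullback C.subschemeι).obj
        (CohB1.tensorPow (L (D.f t) p) e)) q) →
      Subsingleton (Coh.HH E.subscheme ((Scheme.Modules.pullback E.subschemeι).obj N) q) from
    key _ hC hC0
  rintro C rfl hC1
  let j' := (E.comapIso j).hom ≫ pullback.snd _ _
  have hj : j' ≫ E.subschemeι = (E.comap j).subschemeι ≫ j := by
    simp only [j', Category.assoc, ← pullback.condition, Scheme.IdealSheafData.comapIso_hom_fst_assoc]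
  haveI : IsIso j' := by
    refine isIso_of_isOpenImmersion_of_opensRange_eq_top j' ?_
    rw [Scheme.Hom.opensRange_comp_of_isIso, Scheme.Hom.opensRange_pullbackSnd, opensRange_preι, eq_top_iff]
    intro z _
    show σ (E.subschemeι z) ∈ (D.U t).1
    have hz : E.subschemeι z ∈ (E.support : Set X) := by
      rw [← Scheme.IdealSheafData.range_subschemeι]; exact ⟨z, rfl⟩
    rw [eq_pt_of_mem_support hz]
    exact D.mem t
  obtain ⟨b⟩ := nonempty_HH_pullback_iso j' ((Scheme.Modules.pullback E.subschemeι).obj N) q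
  refine @Equiv.subsingleton _ _ b.symm.toEquiv (Groth.L14.LocHilbLift.subsingleton_HH_of_iso ?_ q hC1)
  exact ((Scheme.Modules.pullback (E.comap j).subschemeι).mapIso i).symm ≪≫
    (Scheme.Modules.pullbackComp _ j).app N ≪≫ (Scheme.Modules.pullbackCongr hj.symm).app N ≪≫
    ((Scheme.Modules.pullbackComp j' E.subschemeι).app N).symm

theorem subsingleton_HH_step (hb : BlowUp.IsBlowUp σ I) (D : PointCharts Pt hPc I n) {N : X.Modules}
    (hN : LooksPow D σ N) (t : Fin s) (i : ℕ) (hi : 2 ≤ i) (h : Subsingleton (Coh.HH X N i)) :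
    Subsingleton (Coh.HH X (CohB1.tensorMod (ClSub.idealMod (ptExc hPc σ t)) N) i) := by
  obtain ⟨S, hS, e₁, e₂, -, ⟨e₃⟩⟩ := Groth.L13.PairBlow.exists_seq (ptExc hPc σ t)
    (Groth.L16.Existence.isFinLocFree_of_isInvertible hN.1)
  obtain ⟨q, rfl⟩ : ∃ q, i = q + 1 := ⟨i - 1, by omega⟩
  haveI := Groth.L14.LocHilbLift.subsingleton_HH_of_iso e₃.symm q
    (subsingleton_HH_ptExc_part hb D hN t q (by omega))
  haveI := Groth.L14.LocHilbLift.subsingleton_HH_of_iso e₂.symm (q + 1) h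
  refine Groth.L14.LocHilbLift.subsingleton_HH_of_iso e₁ (q + 1) (subsingleton_of_forall_eq 0 fun z => ?_)
  obtain ⟨w, rfl⟩ := (Groth.L16.CohLinear.exact_delta_hmap hS q z).1 (Subsingleton.elim _ _)
  rw [Subsingleton.elim w 0, map_zero]

theorem subsingleton_HH0_step (D : PointCharts Pt hPc I n) {N : X.Modules}
    (hN : LooksPow D σ N) (t : Fin s) (h : Subsingleton (Coh.HH X N 0)) :
    Subsingleton (Coh.HH X (CohB1.tensorMod (ClSub.idealMod (ptExc hPc σ t)) N) 0) := by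
  obtain ⟨S, hS, e₁, e₂, -, -⟩ := Groth.L13.PairBlow.exists_seq (ptExc hPc σ t)
    (Groth.L16.Existence.isFinLocFree_of_isInvertible hN.1)
  haveI := Groth.L14.LocHilbLift.subsingleton_HH_of_iso e₂.symm 0 h
  refine Groth.L14.LocHilbLift.subsingleton_HH_of_iso e₁ 0 (subsingleton_of_forall_eq 0 fun z => ?_)
  haveI := hS.mono_f
  exact Groth.L21.RR.injective_hmap_zero S.f ((Subsingleton.elim _ _).trans (map_zero _).symm)

/-- Induction along a product of powers of the point ideals. -/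
theorem induction_multiTwist (hb : BlowUp.IsBlowUp σ I) (D : PointCharts Pt hPc I n)
    {Pr : X.Modules → Prop} (hiso : ∀ {M M' : X.Modules}, (M ≅ M') → Pr M → Pr M')
    (hstep : ∀ {N : X.Modules}, LooksPow D σ N → ∀ t, Pr N →
      Pr (CohB1.tensorMod (ClSub.idealMod (ptExc hPc σ t)) N))
    {N : X.Modules} (hN : LooksPow D σ N) (h : Pr N) (d : Fin s → ℕ) :
    Pr (CohB1.tensorMod N (FGA.multiTwist (fun t => ClSub.idealMod (ptExc hPc σ t)) d)) := by
  let J := fun t => ClSub.idealMod (ptExc hPc σ t)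
  have hpow : ∀ (t : Fin s) (m : ℕ) {N : X.Modules}, LooksPow D σ N → Pr N →
      ∃ N', LooksPow D σ N' ∧ Pr N' ∧ Nonempty (N' ≅ CohB1.tensorMod N (CohB1.tensorPow (J t) m)) := by
    intro t m
    induction m with
    | zero => exact fun {N} hN h => ⟨N, hN, h, ⟨(tensorUnitRight N).symm⟩⟩
    | succ m ih =>
      intro N hN h
      obtain ⟨N', hN', h', ⟨e⟩⟩ := ih hN h
      exact ⟨_, looksPow_step hb D hN' t, hstep hN' t h',
        ⟨tensorComm _ _ ≪≫ tensorIso e (Iso.refl _) ≪≫ tensorAssoc _ _ _⟩⟩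
  have hlist : ∀ (l : List (Fin s)) {N : X.Modules}, LooksPow D σ N → Pr N →
      Pr (CohB1.tensorMod N (FGA.tensorList (l.map fun t => CohB1.tensorPow (J t) (d t)))) := by
    intro l
    induction l with
    | nil => exact fun {N} _ h => hiso (tensorUnitRight N).symm h
    | cons t l ih =>
      intro N hN h
      obtain ⟨N', hN', h', ⟨e⟩⟩ := hpow t (d t) hN h
      exact hiso (tensorIso e (Iso.refl _) ≪≫ tensorAssoc _ _ _) (ih hN' h')
  exact hlist _ hN h

theorem looksPow_pullback (D : PointCharts Pt hPc I n) {E : Y.Modules} (hE : PicF.IsInvertible E)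
    (hfree : ∀ t, Nonempty ((Scheme.Modules.pullback (D.U t).2.fromSpec).obj E ≅ Coh.structureModule _)) :
    LooksPow D σ ((Scheme.Modules.pullback σ).obj E) := by
  refine ⟨Groth.L18.Ample.isInvertible_pullback σ hE, fun t => ⟨0, ?_⟩⟩
  obtain ⟨e⟩ := hfree t
  exact ⟨(Scheme.Modules.pullbackComp (preι σ (D.U t)) σ).app E ≪≫
    (Scheme.Modules.pullbackCongr pullback.condition.symm).app E ≪≫
    ((Scheme.Modules.pullbackComp (pullback.fst _ σ) (D.U t).2.fromSpec).app E).symm ≪≫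
    (Scheme.Modules.pullback _).mapIso e ≪≫ Groth.L29.LocFree.pullbackUnitIso _⟩

end Groth.L03.BlowAcyc
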