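import Groth.Agent.L03.BlowAcyc.Global
import Groth.Agent.L07.QuasiRegular
import Mathlib.AlgebraicGeometry.Morphisms.QuasiCompact

/-!
# Regularly immersed centres
-/

set_option autoImplicit false
set_option linter.style.haveILetI false
set_option backward.isDefEq.respectTransparency false

universe u

open CategoryTheory AlgebraicGeometry TopologicalSpace
open Groth.L11.BlowSmooth (sI)

noncomputable section

namespace Groth.L03.BlowAcyc

/-- The complement of a centre containing a nonzerodivisor near each of its points is dense. -/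
theorem dense_compl {Y : Scheme.{u}} (I : Y.IdealSheafData)
    (h : ∀ y ∈ I.support, ∃ U : Y.affineOpens, y ∈ U.1 ∧ ∃ a ∈ I.ideal U, a ∈ nonZeroDivisors Γ(Y, U.1)) :
    Dense ((I.support : Set Y)ᶜ) := by
  refine dense_iff_inter_open.2 fun W hW ⟨w, hw⟩ => ?_
  by_contra hne
  have hsub : W ⊆ (I.support : Set Y) := fun z hz => by
    by_contra hzI; exact hne ⟨z, hz, hzI⟩
  obtain ⟨U, hwU, a, haI, ha⟩ := h w (hsub hw)
  obtain ⟨g, hgW, hwg⟩ := U.2.exists_basicOpen_le (V := (⟨W, hW⟩ : Y.Opens)) ⟨w, hw⟩ hwU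
  have h0 : Y.basicOpen (g * a) = ⊥ := by
    rw [Scheme.basicOpen_mul, eq_bot_iff]
    rintro z ⟨hzg, hza⟩
    have hzU : z ∈ U.1 := Y.basicOpen_le g hzg
    have h1 : z ∈ (I.support : Set Y) ∩ U.1 := ⟨hsub (hgW hzg), hzU⟩
    rw [I.coe_support_inter U] at h1
    exact (Scheme.mem_zeroLocus_iff _ _ _).1 h1.1 a haI hza
  obtain ⟨N, hN⟩ := (Scheme.isNilpotent_iff_basicOpen_eq_bot_of_isCompact U.2.isCompact (g * a)).2 h0
  rw [mul_pow, mul_right_mem_nonZeroDivisors_eq_zero_iff (pow_mem ha N)] at hN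
  have h2 : Y.basicOpen g = ⊥ :=
    (Scheme.isNilpotent_iff_basicOpen_eq_bot_of_isCompact U.2.isCompact g).1 ⟨N, hN⟩
  rw [h2] at hwg
  exact hwg

theorem exists_fin {R : Type u} [CommRing R] {rs : List R} {d : ℕ} (hlen : rs.length = d + 1)
    (h : RingTheory.Sequence.IsWeaklyRegular R rs) :
    ∃ f : Fin (d + 1) → R, Ideal.ofList rs = sI f ∧ CAlgX.IsQuasiRegular f ∧ f 0 ∈ nonZeroDivisors R := by
  let f : Fin (d + 1) → R := fun j => rs.get (Fin.cast hlen.symm j)
  have hf : List.ofFn f = rs := List.ext_get (by simp [hlen]) fun i h₁ h₂ => by simp only [List.get_ofFn]; rfl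
  refine ⟨f, ?_, Groth.L07.QReg.isQuasiRegular_of_isWeaklyRegular (by rw [hf]; exact h), ?_⟩
  · show Ideal.span {x | x ∈ rs} = Ideal.span (Set.range f)
    congr 1
    ext x
    rw [← hf]
    exact List.mem_ofFn' ..
  · obtain ⟨r, rs, rfl⟩ : ∃ r t, rs = r :: t := by
      cases rs with
      | nil => simp at hlen
      | cons a t => exact ⟨a, t, rfl⟩
    have h1 : IsSMulRegular R r := ((RingTheory.Sequence.isWeaklyRegular_cons_iff R r rs).1 h).1
    show r ∈ nonZeroDivisors R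
    exact mem_nonZeroDivisors_iff_right.2 fun z hz => h1 (show r • z = r • 0 by
      rw [smul_eq_mul, smul_zero, mul_comm]; exact hz)

/-- The centre of a regular immersion. -/
theorem locQR_of_regular {Y S : Scheme.{u}} (i : S ⟶ Y) [IsClosedImmersion i] (d : ℕ)
    (hi : RegImm.IsRegularImmersionOfCodim .regular (d + 1) i) :
    LocQR i.ker d ∧ Dense ((i.ker.support : Set Y)ᶜ) := by
  have key : ∀ y ∈ i.ker.support, ∃ (U : Y.affineOpens) (f : Fin (d + 1) → Γ(Y, U.1)), y ∈ U.1 ∧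
      i.ker.ideal U = sI f ∧ CAlgX.IsQuasiRegular f ∧ f 0 ∈ nonZeroDivisors Γ(Y, U.1) := by
    intro y hy
    have hy' : y ∈ Set.range i := by
      have h : y ∈ (i.ker.support : Set Y) := hy
      rwa [Scheme.Hom.support_ker, i.isClosedEmbedding.isClosed_range.closure_eq] at h
    obtain ⟨z, rfl⟩ := hy'
    obtain ⟨U, hzU, -, rs, hlen, hrs, hker⟩ := hi.2 z
    obtain ⟨f, hf, hq, h0⟩ := exists_fin hlen hrs.toIsWeaklyRegular
    exact ⟨U, f, hzU, by rw [Scheme.Hom.ker_apply, hker, hf], hq, h0⟩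
  refine ⟨fun y hy => ?_, dense_compl _ fun y hy => ?_⟩
  · obtain ⟨U, f, hyU, hI, hq, -⟩ := key y hy
    exact ⟨U, d, f, hyU, le_rfl, hI, hq⟩
  · obtain ⟨U, f, hyU, hI, -, h0⟩ := key y hy
    exact ⟨U, hyU, f 0, hI ▸ Ideal.subset_span ⟨0, rfl⟩, h0⟩

end Groth.L03.BlowAcyc
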