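import Groth.Agent.L16.ProjSpace.AmpleIff
import Groth.Agent.L16.ProjSpace.CohTwist
import Groth.Agent.L13.PointBlow.Twist
import Groth.Agent.L18.AmplePull
import Groth.Agent.L18.ProjSpaceUP
import Groth.Agent.L14.LocHilb.Lift.PushHom
import Groth.Agent.L17.AffinePush
import Groth.Agent.L07.DiffOpSheaf

/-!
# Twists on projective space and their inverses
-/

set_option autoImplicit false
set_option linter.style.haveILetI false
set_option backward.isDefEq.respectTransparency false

universe u

open CategoryTheory CategoryTheory.Limits AlgebraicGeometry TopologicalSpace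

noncomputable section

namespace Groth.L03.BlowAcyc

variable (n : ℕ) (R : Type u) [CommRing R]

theorem cover_deg_one (x : Proj (CohB1.polyGrading n R)) :
    ∃ f : CohB1.polyGrading n R 1, x ∈ Proj.basicOpen (CohB1.polyGrading n R) f.1 := by
  obtain ⟨i, hi⟩ := Groth.L16.ProjSpace.exists_mem_basicOpen_X n R x
  exact ⟨⟨_, Groth.L16.ProjSpace.X_mem n R i⟩, hi⟩

variable {n R}

/-- Powers of a module isomorphic to `O(1)`. -/
theorem nonempty_pow_iso_twist {M : (CohB1.ProjSpace n R).Modules} (e : M ≅ Twist.twistProjSpace n R 1) (m : ℕ) :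
    Nonempty (CohB1.tensorPow M m ≅ Twist.twistProjSpace n R (m : ℤ)) := by
  obtain ⟨e'⟩ := Groth.L16.ProjTwist.nonempty_twist_iso_tensorPow (CohB1.polyGrading n R) (cover_deg_one n R) m
  exact ⟨Groth.L00.Tensor.tensorPowIso e m ≪≫ e'.symm⟩

/-- An inverse of `O(1)` is `O(-1)`. -/
theorem nonempty_inverse_iso_twist {M M' : (CohB1.ProjSpace n R).Modules} (e : M ≅ Twist.twistProjSpace n R 1)
    (h : CohB1.tensorMod M' M ≅ Coh.structureModule _) : Nonempty (M' ≅ Twist.twistProjSpace n R (-1)) := by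
  obtain ⟨e'⟩ := Groth.L16.ProjTwist.nonempty_tensor_twist_iso_one (CohB1.polyGrading n R) (cover_deg_one n R) (-1) 1
  obtain ⟨z⟩ := Groth.L16.ProjTwist.nonempty_twist_zero_iso (CohB1.polyGrading n R)
  exact Groth.L13.PointBlow.inverse_unique (Groth.L00.Tensor.tensorIso (Iso.refl M') e.symm ≪≫ h)
    (e' ≪≫ eqToIso (by simp) ≪≫ z)

/-- Powers of an inverse of `O(1)`. -/
theorem nonempty_inverse_pow_iso_twist {M M' : (CohB1.ProjSpace n R).Modules} (e : M ≅ Twist.twistProjSpace n R 1)
    (h : CohB1.tensorMod M' M ≅ Coh.structureModule _) (j : ℕ) :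
    Nonempty (CohB1.tensorPow M' j ≅ Twist.twistProjSpace n R (-(j : ℤ))) := by
  obtain ⟨e'⟩ := nonempty_inverse_iso_twist e h
  obtain ⟨e''⟩ := Groth.L16.ProjTwist.nonempty_tensorPow_twist_iso (CohB1.polyGrading n R) (-1) (cover_deg_one n R) j
  exact ⟨Groth.L00.Tensor.tensorPowIso e' j ≪≫ e'' ≪≫ eqToIso (by rw [mul_neg_one]; rfl)⟩

variable {X E : Scheme.{u}}

/-- Cohomology is preserved by pullback along an isomorphism. -/
theorem nonempty_HH_pullback_iso (e : X ⟶ E) [IsIso e] (M : E.Modules) (q : ℕ) :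
    Nonempty (Coh.HH X ((Scheme.Modules.pullback e).obj M) q ≃+ Coh.HH E M q) := by
  haveI := Groth.L07.DiffOpSheaf.isIso_unit_of_isIso e M
  obtain ⟨a⟩ := Groth.L17.nonempty_HH_push_of_isClosedImmersion e ((Scheme.Modules.pullback e).obj M) q
  let η := asIso ((Scheme.Modules.pullbackPushforwardAdjunction e).unit.app M)
  exact ⟨a.trans
    { toFun := Groth.L16.CohLinear.hmap η.inv q
      invFun := Groth.L16.CohLinear.hmap η.hom q
      left_inv := fun z => by
        rw [← Groth.L16.CohLinear.hmap_comp, η.inv_hom_id]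
        exact Groth.L16.CohLinear.hmap_id q z
      right_inv := fun z => by
        rw [← Groth.L16.CohLinear.hmap_comp, η.hom_inv_id]
        exact Groth.L16.CohLinear.hmap_id q z
      map_add' := map_add _ }⟩

end Groth.L03.BlowAcyc
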